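import Mathlib
set_option linter.all false

-- part: H170/UniBasic
section
/-!
# Unipotent isometries in characteristic two: elementary relations

`V` a vector space over a field of characteristic two, `Q` a quadratic form, `g` an isometry, `N = g - 1`.
* `B_Npow_zero`, `B_Npow_top` : `B (N^a x) (N^b y)` when `N^(a+b) x = 0`, `N^(a+b+1) x = 0`;
* `Q_Npow_zero`, `Q_Npow_top`;
* `self_gram` : the values `Q (N^(j+1) x)` determine all `B (N^a x) (N^b x)`;
* `cross_gram` : the values `B (N^a x) y` determine all `B (N^a x) (N^b y)`.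
-/

set_option autoImplicit false

namespace Cfsg.Agent.H170.Uni

open LinearMap Module QuadraticMap

variable {F : Type*} [Field F] {V : Type*} [AddCommGroup V] [Module F V]

/-- the polar form -/
abbrev B (Q : QuadraticForm F V) : LinearMap.BilinForm F V := polarBilin Q

/-- `g - 1` -/
def N (g : V ≃ₗ[F] V) : Module.End F V := g.toLinearMap - 1

/-- the inverse, as an endomorphism -/
def S (g : V ≃ₗ[F] V) : Module.End F V := g.symm.toLinearMap

theorem N_apply (g : V ≃ₗ[F] V) (v : V) : N g v = g v - v := rfl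

theorem S_apply (g : V ≃ₗ[F] V) (v : V) : S g v = g.symm v := rfl

theorem g_eq (g : V ≃ₗ[F] V) (v : V) : g v = v + N g v := by rw [N_apply]; abel

theorem pow_succ_apply (f : Module.End F V) (j : ℕ) (v : V) : (f ^ (j + 1)) v = f ((f ^ j) v) := by
  rw [pow_succ']; rfl

theorem pow_succ_apply' (f : Module.End F V) (j : ℕ) (v : V) : (f ^ (j + 1)) v = (f ^ j) (f v) := by
  rw [pow_succ]; rfl

theorem pow_add_apply (f : Module.End F V) (i j : ℕ) (v : V) : (f ^ (i + j)) v = (f ^ i) ((f ^ j) v) := by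
  rw [pow_add]; rfl

theorem pow_zero_apply (f : Module.End F V) (v : V) : (f ^ 0) v = v := rfl

theorem pow_eq_zero_of_le {f : Module.End F V} {i j : ℕ} (hij : i ≤ j) {v : V} (h : (f ^ i) v = 0) :
    (f ^ j) v = 0 := by
  obtain ⟨k, rfl⟩ := Nat.exists_eq_add_of_le hij
  rw [add_comm, pow_add_apply, h, map_zero]

theorem S_N (g : V ≃ₗ[F] V) (v : V) : S g (N g v) = N g (S g v) := by
  rw [N_apply, N_apply, S_apply, S_apply, map_sub, LinearEquiv.symm_apply_apply,
    LinearEquiv.apply_symm_apply]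

theorem S_Npow (g : V ≃ₗ[F] V) (j : ℕ) (v : V) : S g ((N g ^ j) v) = (N g ^ j) (S g v) := by
  induction j with
  | zero => rfl
  | succ j ih => rw [pow_succ_apply, pow_succ_apply, S_N, ih]

theorem Spow_N (g : V ≃ₗ[F] V) (j : ℕ) (v : V) : (S g ^ j) (N g v) = N g ((S g ^ j) v) := by
  induction j with
  | zero => rfl
  | succ j ih => rw [pow_succ_apply, pow_succ_apply, ih, S_N]

theorem S_of_N_eq_zero {g : V ≃ₗ[F] V} {v : V} (h : N g v = 0) : S g v = v := by
  rw [S_apply, LinearEquiv.symm_apply_eq]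
  rw [N_apply, sub_eq_zero] at h
  exact h.symm

theorem Spow_of_N_eq_zero {g : V ≃ₗ[F] V} {v : V} (h : N g v = 0) (j : ℕ) : (S g ^ j) v = v := by
  induction j with
  | zero => rfl
  | succ j ih => rw [pow_succ_apply, ih, S_of_N_eq_zero h]

section char2

variable (h2 : (2 : F) = 0)
include h2

theorem add_self (a : F) : a + a = 0 := by rw [← two_mul, h2, zero_mul]

theorem neg_eq (a : F) : -a = a := by rw [neg_eq_iff_add_eq_zero, add_self h2]

theorem sub_eq (a b : F) : a - b = a + b := by rw [sub_eq_add_neg, neg_eq h2]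

theorem eq_of_add_eq_zero {a b : F} (h : a + b = 0) : a = b := by
  rw [← sub_eq_zero, sub_eq h2, h]

end char2

variable (Q : QuadraticForm F V)

theorem Q_add (u v : V) : Q (u + v) = Q u + Q v + B Q u v := by
  rw [polarBilin_apply_apply, QuadraticMap.polar]; ring

theorem Q_smul (c : F) (v : V) : Q (c • v) = c * c * Q v := by
  rw [QuadraticMap.map_smul, smul_eq_mul]

theorem Q_add_smul (u v : V) (c : F) : Q (u + c • v) = Q u + c * c * Q v + c * B Q u v := by
  rw [Q_add, Q_smul, map_smul, smul_eq_mul]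

theorem B_comm (u v : V) : B Q u v = B Q v u := by
  rw [polarBilin_apply_apply, polarBilin_apply_apply, QuadraticMap.polar_comm]

variable {Q}

theorem B_self (h2 : (2 : F) = 0) (u : V) : B Q u u = 0 := by
  rw [polarBilin_apply_apply, QuadraticMap.polar_self, nsmul_eq_mul]
  have : ((2 : ℕ) : F) = 0 := by exact_mod_cast h2
  rw [this, zero_mul]

variable {g : V ≃ₗ[F] V}

theorem B_g (hg : ∀ v, Q (g v) = Q v) (u v : V) : B Q (g u) (g v) = B Q u v := by
  rw [polarBilin_apply_apply, polarBilin_apply_apply, QuadraticMap.polar, QuadraticMap.polar, ← map_add,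
    hg, hg, hg]

theorem B_rel (hg : ∀ v, Q (g v) = Q v) (u v : V) :
    B Q (N g u) v + B Q u (N g v) + B Q (N g u) (N g v) = 0 := by
  have h := B_g hg u v
  rw [g_eq, g_eq] at h
  simp only [map_add, LinearMap.add_apply] at h
  linear_combination h

theorem B_N_right (h2 : (2 : F) = 0) (hg : ∀ v, Q (g v) = Q v) (u v : V) :
    B Q u (N g v) = B Q (S g (N g u)) v := by
  have h1 : B Q u (g v) = B Q (S g u) v := by
    rw [← B_g hg (S g u) v, S_apply, LinearEquiv.apply_symm_apply]
  have h3 : S g (N g u) = u - S g u := by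
    rw [N_apply, S_apply, S_apply, map_sub, LinearEquiv.symm_apply_apply]
  rw [h3, N_apply, map_sub, map_sub, LinearMap.sub_apply, h1, sub_eq h2, sub_eq h2, add_comm]

/-- the relation solved for the second argument -/
theorem B_rel' (h2 : (2 : F) = 0) (hg : ∀ v, Q (g v) = Q v) (u v : V) :
    B Q u (N g v) = B Q (N g u) v + B Q (N g u) (N g v) := by
  have h := B_rel hg u v
  apply eq_of_add_eq_zero h2
  linear_combination h

theorem B_Npow_right (h2 : (2 : F) = 0) (hg : ∀ v, Q (g v) = Q v) (b : ℕ) (u v : V) :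
    B Q u ((N g ^ b) v) = B Q ((S g ^ b) ((N g ^ b) u)) v := by
  induction b generalizing u v with
  | zero => rfl
  | succ b ih =>
    rw [pow_succ_apply' (N g) b v, ih, B_N_right h2 hg, pow_succ_apply (S g), pow_succ_apply (N g), Spow_N]

theorem B_Npow_zero (h2 : (2 : F) = 0) (hg : ∀ v, Q (g v) = Q v) {a b : ℕ} {x : V}
    (h : (N g ^ (a + b)) x = 0) (y : V) : B Q ((N g ^ a) x) ((N g ^ b) y) = 0 := by
  rw [B_Npow_right h2 hg, ← pow_add_apply, add_comm b a, h, map_zero, map_zero, LinearMap.zero_apply]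

theorem B_Npow_top (h2 : (2 : F) = 0) (hg : ∀ v, Q (g v) = Q v) {a b : ℕ} {x : V}
    (h : (N g ^ (a + b + 1)) x = 0) (y : V) :
    B Q ((N g ^ a) x) ((N g ^ b) y) = B Q ((N g ^ (a + b)) x) y := by
  rw [B_Npow_right h2 hg, ← pow_add_apply, add_comm b a, Spow_of_N_eq_zero]
  rw [← pow_succ_apply, h]

theorem Q_N (h2 : (2 : F) = 0) (hg : ∀ v, Q (g v) = Q v) (v : V) : Q (N g v) = B Q v (N g v) := by
  have h := hg v
  rw [g_eq, Q_add] at h
  apply eq_of_add_eq_zero h2
  linear_combination h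

theorem Q_Npow_succ (h2 : (2 : F) = 0) (hg : ∀ v, Q (g v) = Q v) (j : ℕ) (v : V) :
    Q ((N g ^ (j + 1)) v) = B Q ((N g ^ j) v) ((N g ^ (j + 1)) v) := by
  rw [pow_succ_apply, Q_N h2 hg]

theorem Q_Npow_zero (h2 : (2 : F) = 0) (hg : ∀ v, Q (g v) = Q v) {j : ℕ} {v : V}
    (h : (N g ^ (2 * j + 1)) v = 0) : Q ((N g ^ (j + 1)) v) = 0 := by
  rw [Q_Npow_succ h2 hg, B_Npow_zero h2 hg]
  rwa [show j + (j + 1) = 2 * j + 1 by ring]

theorem Q_Npow_top (h2 : (2 : F) = 0) (hg : ∀ v, Q (g v) = Q v) {j : ℕ} {v : V}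
    (h : (N g ^ (2 * j + 2)) v = 0) : Q ((N g ^ (j + 1)) v) = B Q ((N g ^ (2 * j + 1)) v) v := by
  rw [Q_Npow_succ h2 hg, B_Npow_top h2 hg]
  · rw [show j + (j + 1) = 2 * j + 1 by ring]
  · rwa [show j + (j + 1) + 1 = 2 * j + 2 by ring]

section gram

variable {V' : Type*} [AddCommGroup V'] [Module F V'] {Q' : QuadraticForm F V'} {g' : V' ≃ₗ[F] V'}

/-- **The values `Q (N^(j+1) x)` determine the Gram matrix of the `N^a x`.** -/
theorem self_gram (h2 : (2 : F) = 0) (hg : ∀ v, Q (g v) = Q v) (hg' : ∀ v, Q' (g' v) = Q' v) (x : V) (x' : V')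
    (h : ∀ j, Q ((N g ^ (j + 1)) x) = Q' ((N g' ^ (j + 1)) x')) (a b : ℕ) :
    B Q ((N g ^ a) x) ((N g ^ b) x) = B Q' ((N g' ^ a) x') ((N g' ^ b) x') := by
  have key : ∀ d : ℕ, ∀ b : ℕ, B Q ((N g ^ (b + d)) x) ((N g ^ b) x) =
      B Q' ((N g' ^ (b + d)) x') ((N g' ^ b) x') := by
    intro d
    induction d using Nat.strong_induction_on with
    | _ d ih =>
      intro b
      match d, ih with
      | 0, _ => rw [add_zero, B_self h2, B_self h2]
      | 1, _ => rw [B_comm Q, B_comm Q', ← Q_Npow_succ h2 hg, ← Q_Npow_succ h2 hg', h]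
      | d + 2, ih =>
        have e1 := B_rel' h2 hg ((N g ^ b) x) ((N g ^ (b + (d + 1))) x)
        have e2 := B_rel' h2 hg' ((N g' ^ b) x') ((N g' ^ (b + (d + 1))) x')
        rw [← pow_succ_apply, ← pow_succ_apply] at e1 e2
        rw [B_comm Q, B_comm Q', show b + (d + 2) = b + (d + 1) + 1 by ring, e1, e2, B_comm Q, B_comm Q',
          B_comm Q _ ((N g ^ (b + (d + 1) + 1)) x), B_comm Q' _ ((N g' ^ (b + (d + 1) + 1)) x')]
        have i1 := ih d (by omega) (b + 1)
        have i2 := ih (d + 1) (by omega) (b + 1)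
        rw [show b + 1 + d = b + (d + 1) by ring] at i1
        rw [show b + 1 + (d + 1) = b + (d + 1) + 1 by ring] at i2
        rw [i1, i2]
  rcases le_total b a with hab | hab
  · obtain ⟨d, rfl⟩ := Nat.exists_eq_add_of_le hab
    exact key d b
  · obtain ⟨d, rfl⟩ := Nat.exists_eq_add_of_le hab
    rw [B_comm Q, B_comm Q']
    exact key d a

/-- **The values `B (N^a x) y` determine all the `B (N^a x) (N^b y)`.** -/
theorem cross_gram (h2 : (2 : F) = 0) (hg : ∀ v, Q (g v) = Q v) (hg' : ∀ v, Q' (g' v) = Q' v) (x y : V) (x' y' : V')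
    {M : ℕ} (hM : (N g ^ M) x = 0) (hM' : (N g' ^ M) x' = 0)
    (h : ∀ a, B Q ((N g ^ a) x) y = B Q' ((N g' ^ a) x') y') (a b : ℕ) :
    B Q ((N g ^ a) x) ((N g ^ b) y) = B Q' ((N g' ^ a) x') ((N g' ^ b) y') := by
  induction b generalizing a with
  | zero => exact h a
  | succ b ih =>
    have key : ∀ k a : ℕ, M ≤ a + k → B Q ((N g ^ a) x) ((N g ^ (b + 1)) y) =
        B Q' ((N g' ^ a) x') ((N g' ^ (b + 1)) y') := by
      intro k
      induction k with
      | zero =>
        intro a ha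
        rw [add_zero] at ha
        rw [pow_eq_zero_of_le ha hM, pow_eq_zero_of_le ha hM', map_zero, map_zero]; rfl
      | succ k ihk =>
        intro a ha
        rw [pow_succ_apply (N g) b, pow_succ_apply (N g') b, B_rel' h2 hg, B_rel' h2 hg', ← pow_succ_apply,
          ← pow_succ_apply, ← pow_succ_apply, ← pow_succ_apply, ih, ihk (a + 1) (by omega)]
    exact key M a (by omega)

end gram

end Cfsg.Agent.H170.Uni
end

-- part: H170/GramIso
section
/-!
# Families with the same Gram matrix span isometric spaces; orthogonal complements inside a subspace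

* `gram_iso` : two families with equal polar values (and equal values of the forms), spanning nondegenerate subspaces;
* `Nd` : nondegenerate subspace, `St` : stable subspace;
* `comp`, `comp_sup`, `comp_nd`, `comp_st`, `finrank_comp` : complement of `P` in `U`.
-/

set_option autoImplicit false

namespace Cfsg.Agent.H170.Uni

open LinearMap Module QuadraticMap

variable {F : Type*} [Field F] {V : Type*} [AddCommGroup V] [Module F V]
variable {V' : Type*} [AddCommGroup V'] [Module F V']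

/-- the subspace `U` is nondegenerate -/
def Nd (Q : QuadraticForm F V) (U : Submodule F V) : Prop := ∀ u ∈ U, (∀ v ∈ U, B Q u v = 0) → u = 0

/-- the subspace `U` is stable -/
def St (g : V ≃ₗ[F] V) (U : Submodule F V) : Prop := ∀ v ∈ U, g v ∈ U

theorem gram_iso {κ : Type*} (Q : QuadraticForm F V) (Q' : QuadraticForm F V') (Y : κ → V) (Y' : κ → V')
    (hB : ∀ i j, B Q (Y i) (Y j) = B Q' (Y' i) (Y' j))
    (nd : Nd Q (Submodule.span F (Set.range Y))) (nd' : Nd Q' (Submodule.span F (Set.range Y'))) :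
    ∃ T : Submodule.span F (Set.range Y) ≃ₗ[F] Submodule.span F (Set.range Y'),
      (∀ i, (T ⟨Y i, Submodule.subset_span ⟨i, rfl⟩⟩ : V') = Y' i) ∧
      (∀ u v : Submodule.span F (Set.range Y), B Q' (T u : V') (T v : V') = B Q (u : V) (v : V)) ∧
      ((∀ i, Q (Y i) = Q' (Y' i)) → ∀ v : Submodule.span F (Set.range Y), Q' (T v : V') = Q (v : V)) := by
  classical
  obtain ⟨L, hL⟩ : ∃ L : (κ →₀ F) →ₗ[F] V, L = Finsupp.linearCombination F Y := ⟨_, rfl⟩
  obtain ⟨L', hL'⟩ : ∃ L' : (κ →₀ F) →ₗ[F] V', L' = Finsupp.linearCombination F Y' := ⟨_, rfl⟩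
  have hLr : LinearMap.range L = Submodule.span F (Set.range Y) := by rw [hL, Finsupp.range_linearCombination]
  have hLr' : LinearMap.range L' = Submodule.span F (Set.range Y') := by rw [hL', Finsupp.range_linearCombination]
  have hs : ∀ i c, L (Finsupp.single i c) = c • Y i := fun i c => by rw [hL, Finsupp.linearCombination_single]
  have hs' : ∀ i c, L' (Finsupp.single i c) = c • Y' i := fun i c => by rw [hL', Finsupp.linearCombination_single]
  have h1 : ∀ (x : κ →₀ F) (j : κ), B Q (L x) (Y j) = B Q' (L' x) (Y' j) := by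
    intro x j
    induction x using Finsupp.induction_linear with
    | zero => simp
    | add x y hx hy => rw [map_add, map_add, map_add, map_add, LinearMap.add_apply, LinearMap.add_apply, hx, hy]
    | single i c => rw [hs, hs', map_smul, map_smul, LinearMap.smul_apply, LinearMap.smul_apply, hB]
  have h2 : ∀ x y : κ →₀ F, B Q (L x) (L y) = B Q' (L' x) (L' y) := by
    intro x y
    induction y using Finsupp.induction_linear with
    | zero => simp
    | add y z hy hz => rw [map_add, map_add, map_add, map_add, hy, hz]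
    | single i c => rw [hs, hs', map_smul, map_smul, h1]
  have hker : LinearMap.ker L = LinearMap.ker L' := by
    ext x
    rw [LinearMap.mem_ker, LinearMap.mem_ker]
    constructor
    · intro hx
      apply nd' _ (hLr' ▸ LinearMap.mem_range_self L' x)
      intro v hv
      rw [← hLr'] at hv
      obtain ⟨y, rfl⟩ := hv
      rw [← h2, hx, map_zero, LinearMap.zero_apply]
    · intro hx
      apply nd _ (hLr ▸ LinearMap.mem_range_self L x)
      intro v hv
      rw [← hLr] at hv
      obtain ⟨y, rfl⟩ := hv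
      rw [h2, hx, map_zero, LinearMap.zero_apply]
  obtain ⟨T0, hT0⟩ : ∃ T0 : LinearMap.range L ≃ₗ[F] LinearMap.range L',
      T0 = (L.quotKerEquivRange.symm.trans (Submodule.quotEquivOfEq _ _ hker)).trans L'.quotKerEquivRange := ⟨_, rfl⟩
  have hT : ∀ x : κ →₀ F, (T0 ⟨L x, LinearMap.mem_range_self L x⟩ : V') = L' x := by
    intro x
    have e1 : L.quotKerEquivRange.symm ⟨L x, LinearMap.mem_range_self L x⟩ = Submodule.Quotient.mk x := by
      rw [LinearEquiv.symm_apply_eq]
      rfl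
    rw [hT0, LinearEquiv.trans_apply, LinearEquiv.trans_apply, e1]
    rfl
  obtain ⟨T, hTT⟩ : ∃ T : Submodule.span F (Set.range Y) ≃ₗ[F] Submodule.span F (Set.range Y'),
      T = ((LinearEquiv.ofEq _ _ hLr.symm).trans T0).trans (LinearEquiv.ofEq _ _ hLr') := ⟨_, rfl⟩
  have hTx : ∀ x : κ →₀ F, (T ⟨L x, hLr ▸ LinearMap.mem_range_self L x⟩ : V') = L' x := by
    intro x
    rw [hTT, LinearEquiv.trans_apply, LinearEquiv.trans_apply, LinearEquiv.coe_ofEq_apply, ← hT]
    rfl
  refine ⟨T, fun i => ?_, fun u v => ?_, fun hQ v => ?_⟩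
  · have := hTx (Finsupp.single i 1)
    rw [hs', one_smul] at this
    rw [← this]
    congr 2
    apply Subtype.ext
    change Y i = L (Finsupp.single i 1)
    rw [hs, one_smul]
  · obtain ⟨u, hu⟩ := u
    obtain ⟨v, hv⟩ := v
    have hu' := hu
    have hv' := hv
    rw [← hLr] at hu' hv'
    obtain ⟨x, rfl⟩ := hu'
    obtain ⟨y, rfl⟩ := hv'
    rw [hTx, hTx, h2]
  · obtain ⟨v, hv⟩ := v
    have hv' := hv
    rw [← hLr] at hv'
    obtain ⟨x, rfl⟩ := hv'
    rw [hTx]
    change Q' (L' x) = Q (L x)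
    clear hv
    induction x using Finsupp.induction_linear with
    | zero => simp
    | add x y hx hy => rw [map_add L, map_add L', Q_add, Q_add, hx, hy, h2]
    | single i c => rw [hs, hs', Q_smul, Q_smul, hQ]

/-- the same, with names for the spans -/
theorem gram_iso' {κ : Type*} (Q : QuadraticForm F V) (Q' : QuadraticForm F V') (Y : κ → V) (Y' : κ → V')
    {U : Submodule F V} {U' : Submodule F V'} (hU : Submodule.span F (Set.range Y) = U)
    (hU' : Submodule.span F (Set.range Y') = U')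
    (hB : ∀ i j, B Q (Y i) (Y j) = B Q' (Y' i) (Y' j)) (nd : Nd Q U) (nd' : Nd Q' U') :
    ∃ T : U ≃ₗ[F] U', (∀ i (hi : Y i ∈ U), (T ⟨Y i, hi⟩ : V') = Y' i) ∧
      (∀ u v : U, B Q' (T u : V') (T v : V') = B Q (u : V) (v : V)) ∧
      ((∀ i, Q (Y i) = Q' (Y' i)) → ∀ v : U, Q' (T v : V') = Q (v : V)) := by
  subst hU hU'
  obtain ⟨T, h1, h2, h3⟩ := gram_iso Q Q' Y Y' hB nd nd'
  exact ⟨T, fun i _ => h1 i, h2, h3⟩

section comp

variable (Q : QuadraticForm F V) (g : V ≃ₗ[F] V)

/-- the complement of `P` in `U` -/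
def comp (P U : Submodule F V) : Submodule F V := (B Q).orthogonal P ⊓ U

theorem mem_comp {P U : Submodule F V} {v : V} : v ∈ comp Q P U ↔ (∀ p ∈ P, B Q p v = 0) ∧ v ∈ U := by
  rw [comp, Submodule.mem_inf, LinearMap.BilinForm.mem_orthogonal_iff]

theorem B_isRefl : (B Q).IsRefl := fun u v h => by rw [B_comm, h]

theorem comp_le (P U : Submodule F V) : comp Q P U ≤ U := inf_le_right

theorem disjoint_orth {P : Submodule F V} (hP : Nd Q P) : Disjoint P ((B Q).orthogonal P) := by
  rw [Submodule.disjoint_def]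
  intro x hx hx'
  apply hP x hx
  intro v hv
  rw [LinearMap.BilinForm.mem_orthogonal_iff] at hx'
  rw [B_comm]
  exact hx' v hv

theorem comp_sup [FiniteDimensional F V] {P U : Submodule F V} (hP : Nd Q P) (hPU : P ≤ U) :
    P ⊔ comp Q P U = U := by
  have h := (LinearMap.BilinForm.isCompl_orthogonal_iff_disjoint (B_isRefl Q) (W := P)).2 (disjoint_orth Q hP)
  rw [comp, ← sup_inf_assoc_of_le _ hPU, h.sup_eq_top, top_inf_eq]

theorem comp_disjoint {P U : Submodule F V} (hP : Nd Q P) : Disjoint P (comp Q P U) :=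
  (disjoint_orth Q hP).mono_right inf_le_left

theorem exists_add [FiniteDimensional F V] {P U : Submodule F V} (hP : Nd Q P) (hPU : P ≤ U) {u : V} (hu : u ∈ U) :
    ∃ p ∈ P, ∃ w ∈ comp Q P U, p + w = u := by
  rw [← comp_sup Q hP hPU] at hu
  exact Submodule.mem_sup.1 hu

theorem comp_nd [FiniteDimensional F V] {P U : Submodule F V} (hP : Nd Q P) (hPU : P ≤ U) (hU : Nd Q U) :
    Nd Q (comp Q P U) := by
  intro u hu h
  apply hU u (comp_le Q P U hu)
  intro v hv
  obtain ⟨p, hp, w, hw, rfl⟩ := exists_add Q hP hPU hv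
  rw [map_add, h w hw, B_comm, ((mem_comp Q).1 hu).1 p hp, add_zero]

theorem finrank_comp [FiniteDimensional F V] {P U : Submodule F V} (hP : Nd Q P) (hPU : P ≤ U) :
    finrank F P + finrank F (comp Q P U) = finrank F U := by
  have h := Submodule.finrank_sup_add_finrank_inf_eq P (comp Q P U)
  rw [(comp_disjoint Q hP).eq_bot, finrank_bot, add_zero, comp_sup Q hP hPU] at h
  exact h.symm

variable {g}

theorem St.symm [FiniteDimensional F V] {U : Submodule F V} (hU : St g U) {v : V} (hv : v ∈ U) : g.symm v ∈ U := by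
  have h1 : U.map g.toLinearMap ≤ U := by
    rintro _ ⟨w, hw, rfl⟩
    exact hU w hw
  have h2 : U.map g.toLinearMap = U := by
    apply Submodule.eq_of_le_of_finrank_eq h1
    exact LinearEquiv.finrank_map_eq g U
  rw [← h2] at hv
  obtain ⟨w, hw, rfl⟩ := hv
  change g.symm (g w) ∈ U
  rwa [LinearEquiv.symm_apply_apply]

theorem St.N_mem {U : Submodule F V} (hU : St g U) {v : V} (hv : v ∈ U) : N g v ∈ U := U.sub_mem (hU v hv) hv

theorem St.Npow_mem {U : Submodule F V} (hU : St g U) {v : V} (hv : v ∈ U) (j : ℕ) : (N g ^ j) v ∈ U := by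
  induction j with
  | zero => exact hv
  | succ j ih => rw [pow_succ_apply]; exact hU.N_mem ih

theorem St.of_N {U : Submodule F V} (hU : ∀ v ∈ U, N g v ∈ U) : St g U := fun v hv => by
  rw [g_eq]; exact U.add_mem hv (hU v hv)

variable {Q}

theorem comp_st [FiniteDimensional F V] (hg : ∀ v, Q (g v) = Q v) {P U : Submodule F V} (hP : St g P) (hU : St g U) :
    St g (comp Q P U) := by
  intro v hv
  rw [mem_comp] at hv ⊢
  refine ⟨fun p hp => ?_, hU v hv.2⟩
  have h := hv.1 _ (hP.symm hp)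
  rw [← B_g hg, LinearEquiv.apply_symm_apply] at h
  exact h

end comp

/-- nondegenerate images -/
theorem nd_range {E : Type*} [AddCommGroup E] [Module F E] (Q : QuadraticForm F V) (Φ : E →ₗ[F] V)
    (h : ∀ e, (∀ e', B Q (Φ e) (Φ e') = 0) → e = 0) :
    Nd Q (LinearMap.range Φ) ∧ finrank F (LinearMap.range Φ) = finrank F E := by
  refine ⟨?_, ?_⟩
  · rintro _ ⟨e, rfl⟩ hu
    rw [h e fun e' => hu _ ⟨e', rfl⟩, map_zero]
  · apply LinearMap.finrank_range_of_inj
    rw [← LinearMap.ker_eq_bot, LinearMap.ker_eq_bot']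
    intro e he
    exact h e fun e' => by rw [he, map_zero, LinearMap.zero_apply]

end Cfsg.Agent.H170.Uni
end

-- part: H170/Piece
section
/-!
# The indecomposable pieces of unipotent isometries in characteristic two

* `Piece` : `W m s` (hyperbolic type, dimension `2 m`, sign `s`), `C k s` (cyclic, dimension `2 k`, sign `s`);
* `IsP` : the generators `x`, `y` (`y = 0` for `C`) have the standard values;
* `IsP.nd`, `IsP.finrank` : the piece is nondegenerate of dimension `2 * size`;
* `IsP.iso` : two pieces of the same type are isometric.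
-/

set_option autoImplicit false

namespace Cfsg.Agent.H170.Uni

open LinearMap Module QuadraticMap

variable {F : Type*} [Field F] {V : Type*} [AddCommGroup V] [Module F V]
variable {V' : Type*} [AddCommGroup V'] [Module F V']

/-- types of pieces -/
inductive Piece where
  | W (m : ℕ) (s : Bool) : Piece
  | C (k : ℕ) (s : Bool) : Piece
  deriving DecidableEq

/-- half of the dimension -/
def Piece.size : Piece → ℕ
  | .W m _ => m
  | .C k _ => k

/-- the length (nilpotency index of `N`) -/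
def Piece.len : Piece → ℕ
  | .W m _ => m
  | .C k _ => 2 * k

/-- `x`, `y` are standard generators of a piece of the given type -/
def IsP (Q : QuadraticForm F V) (g : V ≃ₗ[F] V) (α : F) : Piece → V → V → Prop
  | .W m s, x, y => (N g ^ m) x = 0 ∧ (N g ^ m) y = 0 ∧ (∀ j, B Q ((N g ^ j) x) y = if j + 1 = m then 1 else 0) ∧
      (∀ j, Q ((N g ^ j) x) = if s = true ∧ 2 * j + 1 = m then 1 else 0) ∧
      (∀ j, Q ((N g ^ j) y) = if s = true ∧ 2 * j + 1 = m then α else 0)
  | .C k s, x, y => y = 0 ∧ (N g ^ (2 * k)) x = 0 ∧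
      (∀ j, Q ((N g ^ j) x) = if j = k then 1 else if s = true ∧ j + 1 = k then α else 0)

/-- the submodule generated by `x` and `y` -/
def Cyc (g : V ≃ₗ[F] V) (x y : V) : Submodule F V :=
  Submodule.span F (Set.range fun p : ℕ × Bool => (N g ^ p.1) (cond p.2 x y))

theorem Cyc_st (g : V ≃ₗ[F] V) (x y : V) : St g (Cyc g x y) := by
  apply St.of_N
  intro v hv
  rw [Cyc] at hv
  induction hv using Submodule.span_induction with
  | mem v hv =>
    obtain ⟨⟨j, b⟩, rfl⟩ := hv
    apply Submodule.subset_span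
    exact ⟨(j + 1, b), pow_succ_apply _ _ _⟩
  | zero => rw [map_zero]; exact Submodule.zero_mem _
  | add u v _ _ hu hv => rw [map_add]; exact Submodule.add_mem _ hu hv
  | smul c v _ hv => rw [map_smul]; exact Submodule.smul_mem _ _ hv

theorem Cyc_le {g : V ≃ₗ[F] V} {x y : V} {U : Submodule F V} (hU : St g U) (hx : x ∈ U) (hy : y ∈ U) :
    Cyc g x y ≤ U := by
  rw [Cyc, Submodule.span_le]
  rintro _ ⟨⟨j, b⟩, rfl⟩
  cases b
  · exact hU.Npow_mem hy j
  · exact hU.Npow_mem hx j

theorem Npow_mem_Cyc_left (g : V ≃ₗ[F] V) (x y : V) (j : ℕ) : (N g ^ j) x ∈ Cyc g x y :=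
  Submodule.subset_span ⟨(j, true), rfl⟩

theorem Npow_mem_Cyc_right (g : V ≃ₗ[F] V) (x y : V) (j : ℕ) : (N g ^ j) y ∈ Cyc g x y :=
  Submodule.subset_span ⟨(j, false), rfl⟩

theorem mem_Cyc_left (g : V ≃ₗ[F] V) (x y : V) : x ∈ Cyc g x y := Npow_mem_Cyc_left g x y 0

theorem mem_Cyc_right (g : V ≃ₗ[F] V) (x y : V) : y ∈ Cyc g x y := Npow_mem_Cyc_right g x y 0

variable {Q : QuadraticForm F V} {g : V ≃ₗ[F] V} {α : F}

/-- the top form is alternating on `y` -/
theorem alt_top (h2 : (2 : F) = 0) (hg : ∀ v, Q (g v) = Q v) {m : ℕ} {y : V} (hy : (N g ^ (m + 1)) y = 0)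
    (hQ : ∀ j, 2 * j = m + 1 → Q ((N g ^ j) y) = 0) : B Q ((N g ^ m) y) y = 0 := by
  rcases Nat.even_or_odd' m with ⟨k, rfl | rfl⟩
  · have h := B_Npow_top (a := k) (b := k) h2 hg (x := y) (by rwa [← two_mul]) y
    rw [B_self h2, ← two_mul] at h
    exact h.symm
  · rw [← Q_Npow_top h2 hg (by rwa [show 2 * k + 2 = 2 * k + 1 + 1 by ring])]
    exact hQ (k + 1) (by ring)

theorem W_alt (h2 : (2 : F) = 0) (hg : ∀ v, Q (g v) = Q v) {m : ℕ} {s : Bool} {x y : V}
    (h : IsP Q g α (.W (m + 1) s) x y) : B Q ((N g ^ m) x) x = 0 ∧ B Q ((N g ^ m) y) y = 0 := by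
  obtain ⟨h1, h3, -, h4, h5⟩ := h
  refine ⟨alt_top h2 hg h1 fun j hj => ?_, alt_top h2 hg h3 fun j hj => ?_⟩
  · rw [h4, if_neg (by omega)]
  · rw [h5, if_neg (by omega)]

theorem nd_W (h2 : (2 : F) = 0) (hg : ∀ v, Q (g v) = Q v) {m : ℕ} {x y : V} (hx : (N g ^ (m + 1)) x = 0)
    (hy : (N g ^ (m + 1)) y = 0) (hxy : B Q ((N g ^ m) x) y = 1) (hxx : B Q ((N g ^ m) x) x = 0)
    (hyy : B Q ((N g ^ m) y) y = 0) : Nd Q (Cyc g x y) ∧ finrank F (Cyc g x y) = 2 * (m + 1) := by
  classical
  obtain ⟨Φ, hΦ⟩ : ∃ Φ : ((Fin (m + 1) → F) × (Fin (m + 1) → F)) →ₗ[F] V,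
      Φ = (Fintype.linearCombination F (fun a : Fin (m + 1) => (N g ^ (a : ℕ)) x)).coprod
        (Fintype.linearCombination F (fun a : Fin (m + 1) => (N g ^ (a : ℕ)) y)) := ⟨_, rfl⟩
  have hΦa : ∀ e, Φ e = ∑ a, e.1 a • (N g ^ (a : ℕ)) x + ∑ a, e.2 a • (N g ^ (a : ℕ)) y := by
    intro e
    rw [hΦ, LinearMap.coprod_apply, Fintype.linearCombination_apply, Fintype.linearCombination_apply]
  have hs1 : ∀ a : Fin (m + 1), Φ (Pi.single a 1, 0) = (N g ^ (a : ℕ)) x := by
    intro a
    rw [hΦa]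
    simp [Pi.single_apply]
  have hs2 : ∀ a : Fin (m + 1), Φ (0, Pi.single a 1) = (N g ^ (a : ℕ)) y := by
    intro a
    rw [hΦa]
    simp [Pi.single_apply]
  have hyx : B Q ((N g ^ m) y) x = 1 := by
    have h := B_Npow_top (a := 0) (b := m) h2 hg (x := x) (by rwa [zero_add]) y
    rw [zero_add, hxy, B_comm] at h
    exact h
  have hrange : LinearMap.range Φ = Cyc g x y := by
    apply le_antisymm
    · rintro _ ⟨e, rfl⟩
      rw [hΦa]
      exact Submodule.add_mem _ (Submodule.sum_mem _ fun a _ => Submodule.smul_mem _ _ (Npow_mem_Cyc_left g x y a))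
        (Submodule.sum_mem _ fun a _ => Submodule.smul_mem _ _ (Npow_mem_Cyc_right g x y a))
    · rw [Cyc, Submodule.span_le]
      rintro _ ⟨⟨j, b⟩, rfl⟩
      rcases lt_or_ge j (m + 1) with hj | hj
      · cases b
        · exact ⟨_, hs2 ⟨j, hj⟩⟩
        · exact ⟨_, hs1 ⟨j, hj⟩⟩
      · cases b
        · change (N g ^ j) y ∈ _
          rw [pow_eq_zero_of_le hj hy]; exact Submodule.zero_mem _
        · change (N g ^ j) x ∈ _
          rw [pow_eq_zero_of_le hj hx]; exact Submodule.zero_mem _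
  have key : ∀ e, (∀ e', B Q (Φ e) (Φ e') = 0) → e = 0 := by
    intro e he
    -- the values
    have val : ∀ (z w : V) (c : Fin (m + 1) → F) (a : ℕ) (ha : a < m + 1), (N g ^ (m + 1)) z = 0 →
        (∀ b (hb : b < m + 1), b < a → c ⟨b, hb⟩ = 0) →
        B Q (∑ b, c b • (N g ^ (b : ℕ)) z) ((N g ^ (m - a)) w) = c ⟨a, ha⟩ * B Q ((N g ^ m) z) w := by
      intro z w c a ha hz hc
      rw [map_sum, LinearMap.sum_apply, Finset.sum_eq_single (⟨a, ha⟩ : Fin (m + 1))]
      · rw [map_smul, LinearMap.smul_apply, smul_eq_mul, B_Npow_top h2 hg]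
        · congr 3
          rw [show ((⟨a, ha⟩ : Fin (m + 1)) : ℕ) + (m - a) = m by simp; omega]
        · rw [show ((⟨a, ha⟩ : Fin (m + 1)) : ℕ) + (m - a) + 1 = m + 1 by simp; omega, hz]
      · intro b _ hb
        rcases lt_trichotomy (b : ℕ) a with hlt | heq | hgt
        · rw [hc b b.2 hlt, zero_smul, map_zero, LinearMap.zero_apply]
        · exact absurd (Fin.ext heq) hb
        · rw [map_smul, LinearMap.smul_apply, smul_eq_mul, B_Npow_zero h2 hg, mul_zero]
          exact pow_eq_zero_of_le (by omega) hz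
      · intro h; exact absurd (Finset.mem_univ _) h
    have main : ∀ a (ha : a < m + 1), e.1 ⟨a, ha⟩ = 0 ∧ e.2 ⟨a, ha⟩ = 0 := by
      intro a
      induction a using Nat.strong_induction_on with
      | _ a ih =>
        intro ha
        have hm : m - a < m + 1 := by omega
        have i1 : ∀ b (hb : b < m + 1), b < a → e.1 ⟨b, hb⟩ = 0 := fun b hb h => (ih b h hb).1
        have i2 : ∀ b (hb : b < m + 1), b < a → e.2 ⟨b, hb⟩ = 0 := fun b hb h => (ih b h hb).2
        constructor
        · have h := he (0, Pi.single ⟨m - a, hm⟩ 1)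
          rw [hs2, hΦa, map_add, LinearMap.add_apply, val x y e.1 a ha hx i1, val y y e.2 a ha hy i2, hxy, hyy,
            mul_one, mul_zero, add_zero] at h
          exact h
        · have h := he (Pi.single ⟨m - a, hm⟩ 1, 0)
          rw [hs1, hΦa, map_add, LinearMap.add_apply, val x x e.1 a ha hx i1, val y x e.2 a ha hy i2, hxx, hyx,
            mul_one, mul_zero, zero_add] at h
          exact h
    apply Prod.ext
    · funext a; exact (main a a.2).1
    · funext a; exact (main a a.2).2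
  have h := nd_range Q Φ key
  rw [hrange] at h
  refine ⟨h.1, ?_⟩
  rw [h.2, Module.finrank_prod, Module.finrank_fin_fun]
  ring

theorem nd_C (h2 : (2 : F) = 0) (hg : ∀ v, Q (g v) = Q v) {m : ℕ} {x : V} (hx : (N g ^ (m + 1)) x = 0)
    (hxx : B Q ((N g ^ m) x) x = 1) : Nd Q (Cyc g x 0) ∧ finrank F (Cyc g x 0) = m + 1 := by
  classical
  obtain ⟨Φ, hΦ⟩ : ∃ Φ : (Fin (m + 1) → F) →ₗ[F] V,
      Φ = Fintype.linearCombination F (fun a : Fin (m + 1) => (N g ^ (a : ℕ)) x) := ⟨_, rfl⟩
  have hΦa : ∀ e, Φ e = ∑ a, e a • (N g ^ (a : ℕ)) x := by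
    intro e
    rw [hΦ, Fintype.linearCombination_apply]
  have hs1 : ∀ a : Fin (m + 1), Φ (Pi.single a 1) = (N g ^ (a : ℕ)) x := by
    intro a
    rw [hΦa]
    simp [Pi.single_apply]
  have hrange : LinearMap.range Φ = Cyc g x 0 := by
    apply le_antisymm
    · rintro _ ⟨e, rfl⟩
      rw [hΦa]
      exact Submodule.sum_mem _ fun a _ => Submodule.smul_mem _ _ (Npow_mem_Cyc_left g x 0 a)
    · rw [Cyc, Submodule.span_le]
      rintro _ ⟨⟨j, b⟩, rfl⟩
      cases b
      · change (N g ^ j) 0 ∈ _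
        rw [map_zero]; exact Submodule.zero_mem _
      · rcases lt_or_ge j (m + 1) with hj | hj
        · exact ⟨_, hs1 ⟨j, hj⟩⟩
        · change (N g ^ j) x ∈ _
          rw [pow_eq_zero_of_le hj hx]; exact Submodule.zero_mem _
  have key : ∀ e, (∀ e', B Q (Φ e) (Φ e') = 0) → e = 0 := by
    intro e he
    have main : ∀ a (ha : a < m + 1), e ⟨a, ha⟩ = 0 := by
      intro a
      induction a using Nat.strong_induction_on with
      | _ a ih =>
        intro ha
        have hm : m - a < m + 1 := by omega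
        have h := he (Pi.single ⟨m - a, hm⟩ 1)
        rw [hs1, hΦa, map_sum, LinearMap.sum_apply, Finset.sum_eq_single (⟨a, ha⟩ : Fin (m + 1))] at h
        · rw [map_smul, LinearMap.smul_apply, smul_eq_mul, B_Npow_top h2 hg] at h
          · rw [show ((⟨a, ha⟩ : Fin (m + 1)) : ℕ) + ((⟨m - a, hm⟩ : Fin (m + 1)) : ℕ) = m by simp; omega, hxx,
              mul_one] at h
            exact h
          · rw [show ((⟨a, ha⟩ : Fin (m + 1)) : ℕ) + ((⟨m - a, hm⟩ : Fin (m + 1)) : ℕ) + 1 = m + 1 by simp; omega, hx]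
        · intro b _ hb
          rcases lt_trichotomy (b : ℕ) a with hlt | heq | hgt
          · rw [ih b hlt b.2, zero_smul, map_zero, LinearMap.zero_apply]
          · exact absurd (Fin.ext heq) hb
          · rw [map_smul, LinearMap.smul_apply, smul_eq_mul, B_Npow_zero h2 hg, mul_zero]
            exact pow_eq_zero_of_le (by simp; omega) hx
        · intro h; exact absurd (Finset.mem_univ _) h
    funext a; exact main a a.2
  have h := nd_range Q Φ key
  rw [hrange] at h
  exact ⟨h.1, by rw [h.2, Module.finrank_fin_fun]⟩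

theorem C_top (h2 : (2 : F) = 0) (hg : ∀ v, Q (g v) = Q v) {k : ℕ} {s : Bool} {x y : V}
    (h : IsP Q g α (.C (k + 1) s) x y) : B Q ((N g ^ (2 * k + 1)) x) x = 1 := by
  obtain ⟨-, h1, h3⟩ := h
  rw [← Q_Npow_top h2 hg h1, h3, if_pos rfl]

theorem IsP.pos {p : Piece} {x y : V} (h : IsP Q g α p x y) (hx : x ≠ 0) : 0 < p.size := by
  cases p with
  | W m s =>
    rcases Nat.eq_zero_or_pos m with rfl | hm
    · exact absurd h.1 hx
    · exact hm
  | C k s =>
    rcases Nat.eq_zero_or_pos k with rfl | hk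
    · exact absurd h.2.1 hx
    · exact hk

theorem IsP.nd_finrank (h2 : (2 : F) = 0) (hg : ∀ v, Q (g v) = Q v) {p : Piece} {x y : V} (h : IsP Q g α p x y) :
    Nd Q (Cyc g x y) ∧ finrank F (Cyc g x y) = 2 * p.size := by
  cases p with
  | W m s =>
    cases m with
    | zero =>
      have hx : x = 0 := h.1
      have hy : y = 0 := h.2.1
      subst hx hy
      have h0 : Cyc g (0 : V) 0 = ⊥ := by
        rw [Cyc, Submodule.span_eq_bot]
        rintro _ ⟨⟨j, b⟩, rfl⟩
        cases b <;> simp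
      rw [h0]
      refine ⟨fun u hu _ => (Submodule.mem_bot F).1 hu, ?_⟩
      rw [finrank_bot]; rfl
    | succ m =>
      have ha := W_alt h2 hg h
      refine nd_W h2 hg h.1 h.2.1 ?_ ha.1 ha.2
      rw [h.2.2.1, if_pos rfl]
  | C k s =>
    cases k with
    | zero =>
      exfalso
      have hx : x = 0 := h.2.1
      have h1 := h.2.2 0
      rw [hx, map_zero, map_zero, if_pos rfl] at h1
      exact zero_ne_one h1
    | succ k =>
      have hy : y = 0 := h.1
      subst hy
      have h1 := nd_C h2 hg (m := 2 * k + 1) h.2.1 (C_top h2 hg h)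
      exact ⟨h1.1, by rw [h1.2]; simp only [Piece.size]; ring⟩

theorem IsP.pow_len {p : Piece} {x y : V} (h : IsP Q g α p x y) : (N g ^ p.len) x = 0 ∧ (N g ^ p.len) y = 0 := by
  cases p with
  | W m s => exact ⟨h.1, h.2.1⟩
  | C k s =>
    refine ⟨h.2.1, ?_⟩
    rw [h.1, map_zero]

/-- the top power is nonzero on `x` -/
theorem IsP.pow_ne (h2 : (2 : F) = 0) (hg : ∀ v, Q (g v) = Q v) {p : Piece} {x y : V} (h : IsP Q g α p x y)
    {j : ℕ} (hj : j < p.len) : (N g ^ j) x ≠ 0 := by
  intro h0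
  cases p with
  | W m s =>
    simp only [Piece.len] at hj
    have h1 := h.2.2.1 (m - 1)
    rw [pow_eq_zero_of_le (by omega) h0, map_zero, LinearMap.zero_apply, if_pos (by omega)] at h1
    exact zero_ne_one h1
  | C k s =>
    simp only [Piece.len] at hj
    obtain ⟨k, rfl⟩ : ∃ k', k = k' + 1 := ⟨k - 1, by omega⟩
    have h1 := C_top h2 hg h
    rw [pow_eq_zero_of_le (by omega) h0, map_zero, LinearMap.zero_apply] at h1
    exact zero_ne_one h1

/-- the value of the forms on generators is determined by the type of the piece -/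
theorem IsP.gram (h2 : (2 : F) = 0) (hg : ∀ v, Q (g v) = Q v) {Q' : QuadraticForm F V'} {g' : V' ≃ₗ[F] V'}
    (hg' : ∀ v, Q' (g' v) = Q' v) {p : Piece} {x y : V} {x' y' : V'} (h : IsP Q g α p x y)
    (h' : IsP Q' g' α p x' y') :
    (∀ i j : ℕ × Bool, B Q ((N g ^ i.1) (cond i.2 x y)) ((N g ^ j.1) (cond j.2 x y)) =
      B Q' ((N g' ^ i.1) (cond i.2 x' y')) ((N g' ^ j.1) (cond j.2 x' y'))) ∧
    ∀ i : ℕ × Bool, Q ((N g ^ i.1) (cond i.2 x y)) = Q' ((N g' ^ i.1) (cond i.2 x' y')) := by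
  have hq : ∀ i : ℕ × Bool, Q ((N g ^ i.1) (cond i.2 x y)) = Q' ((N g' ^ i.1) (cond i.2 x' y')) := by
    rintro ⟨j, b⟩
    cases p with
    | W m s =>
      cases b
      · change Q ((N g ^ j) y) = Q' ((N g' ^ j) y')
        rw [h.2.2.2.2, h'.2.2.2.2]
      · change Q ((N g ^ j) x) = Q' ((N g' ^ j) x')
        rw [h.2.2.2.1, h'.2.2.2.1]
    | C k s =>
      cases b
      · change Q ((N g ^ j) y) = Q' ((N g' ^ j) y')
        rw [h.1, h'.1, map_zero, map_zero, map_zero, map_zero]
      · change Q ((N g ^ j) x) = Q' ((N g' ^ j) x')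
        rw [h.2.2, h'.2.2]
  refine ⟨?_, hq⟩
  have hc : ∀ a b, B Q ((N g ^ a) x) ((N g ^ b) y) = B Q' ((N g' ^ a) x') ((N g' ^ b) y') := by
    refine cross_gram h2 hg hg' x y x' y' h.pow_len.1 h'.pow_len.1 ?_
    intro a
    cases p with
    | W m s => rw [h.2.2.1, h'.2.2.1]
    | C k s => rw [h.1, h'.1, map_zero, map_zero]
  rintro ⟨i, bi⟩ ⟨j, bj⟩
  cases bi <;> cases bj
  · exact self_gram h2 hg hg' y y' (fun j => hq (j + 1, false)) i j
  · change B Q ((N g ^ i) y) ((N g ^ j) x) = B Q' ((N g' ^ i) y') ((N g' ^ j) x')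
    rw [B_comm Q, B_comm Q']
    exact hc j i
  · exact hc i j
  · exact self_gram h2 hg hg' x x' (fun j => hq (j + 1, true)) i j

end Cfsg.Agent.H170.Uni
end

-- part: H170/Level
section
/-!
# Standard generators of the top pieces

* `exists_W` : from `v`, `w` with the right top values to standard generators of `W (m+1) s`;
* `exists_C` : the same for the cyclic pieces.
-/

set_option autoImplicit false

namespace Cfsg.Agent.H170.Uni

open LinearMap Module QuadraticMap

variable {F : Type*} [Field F] {V : Type*} [AddCommGroup V] [Module F V]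
variable {Q : QuadraticForm F V} {g : V ≃ₗ[F] V} {α : F}

theorem qbig (h2 : (2 : F) = 0) (hg : ∀ v, Q (g v) = Q v) {m : ℕ} {y : V} (hy : (N g ^ (m + 1)) y = 0)
    (halt : B Q ((N g ^ m) y) y = 0) {t : ℕ} (ht : m < 2 * t) : Q ((N g ^ t) y) = 0 := by
  obtain ⟨t, rfl⟩ : ∃ t', t = t' + 1 := ⟨t - 1, by omega⟩
  rcases Nat.lt_or_ge m (2 * t + 1) with h | h
  · exact Q_Npow_zero h2 hg (pow_eq_zero_of_le (by omega) hy)
  · have hm : m = 2 * t + 1 := by omega
    subst hm
    rw [Q_Npow_top h2 hg hy, halt]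

theorem Q_mod (h2 : (2 : F) = 0) (hg : ∀ v, Q (g v) = Q v) {m : ℕ} {x y : V} (hx : (N g ^ (m + 1)) x = 0)
    (hy : (N g ^ (m + 1)) y = 0) (halt : B Q ((N g ^ m) y) y = 0) {s : ℕ} (hs : 0 < s) (c : F) {j : ℕ}
    (hj : m ≤ 2 * j + s) : Q ((N g ^ j) (x + c • (N g ^ s) y)) =
      Q ((N g ^ j) x) + (if 2 * j + s = m then c * B Q ((N g ^ m) x) y else 0) := by
  rw [map_add, map_smul, ← pow_add_apply, Q_add_smul, qbig h2 hg hy halt (by omega), mul_zero, add_zero]
  congr 1
  split_ifs with h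
  · rw [B_Npow_top h2 hg]
    · rw [show j + (j + s) = m by omega]
    · rwa [show j + (j + s) + 1 = m + 1 by omega]
  · rw [B_Npow_zero h2 hg, mul_zero]
    exact pow_eq_zero_of_le (by omega) hx

theorem top_symm (h2 : (2 : F) = 0) (hg : ∀ v, Q (g v) = Q v) {m : ℕ} {x y : V} (hy : (N g ^ (m + 1)) y = 0) :
    B Q ((N g ^ m) y) x = B Q ((N g ^ m) x) y := by
  have h := B_Npow_top (a := 0) (b := m) h2 hg (x := y) (by rwa [zero_add]) x
  rw [zero_add] at h
  rw [← h, B_comm]; rfl

/-- the invariant of the level induction -/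
structure Lev (Q : QuadraticForm F V) (g : V ≃ₗ[F] V) (U : Submodule F V) (m : ℕ) (c d : F) (l : ℕ) (v w : V) :
    Prop where
  vU : v ∈ U
  wU : w ∈ U
  hv : (N g ^ (m + 1)) v = 0
  hw : (N g ^ (m + 1)) w = 0
  top : B Q ((N g ^ m) v) w = 1
  av : B Q ((N g ^ m) v) v = 0
  aw : B Q ((N g ^ m) w) w = 0
  cc : ∀ j, m ≤ j + l → j < m → B Q ((N g ^ j) v) w = 0
  qv : ∀ j, m ≤ 2 * j + l → 2 * j < m → Q ((N g ^ j) v) = 0
  qw : ∀ j, m ≤ 2 * j + l → 2 * j < m → Q ((N g ^ j) w) = 0
  cv : ∀ j, 2 * j = m → Q ((N g ^ j) v) = c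
  cw : ∀ j, 2 * j = m → Q ((N g ^ j) w) = d

theorem Npow_add_smul_top {m s : ℕ} {x y : V} (hy : (N g ^ (m + 1)) y = 0) (c : F) {j : ℕ}
    (hj : m + 1 ≤ j + s) : (N g ^ j) (x + c • (N g ^ s) y) = (N g ^ j) x := by
  rw [map_add, map_smul, ← pow_add_apply, pow_eq_zero_of_le hj hy, smul_zero, add_zero]

theorem lev_step (h2 : (2 : F) = 0) (hg : ∀ v, Q (g v) = Q v) {U : Submodule F V} (hU : St g U) {m : ℕ} {c d : F}
    {l : ℕ} {v w : V} (h : Lev Q g U m c d l v w) (hl : l < m) : ∃ v' w', Lev Q g U m c d (l + 1) v' w' := by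
  obtain ⟨hvU, hwU, hv, hw, top, av, aw, cc, qv, qw, cv, cw⟩ := h
  have hs : 0 < l + 1 := Nat.succ_pos l
  -- step 1
  obtain ⟨lam, hlam⟩ : ∃ lam, lam = B Q ((N g ^ (m - (l + 1))) v) w := ⟨_, rfl⟩
  obtain ⟨w1, hw1⟩ : ∃ w1, w1 = w + lam • (N g ^ (l + 1)) w := ⟨_, rfl⟩
  have w1U : w1 ∈ U := hw1 ▸ U.add_mem hwU (U.smul_mem _ (hU.Npow_mem hwU _))
  have w1z : (N g ^ (m + 1)) w1 = 0 := by rw [hw1, Npow_add_smul_top hw _ (by omega), hw]
  have w1m : (N g ^ m) w1 = (N g ^ m) w := by rw [hw1, Npow_add_smul_top hw _ (by omega)]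
  have top1 : B Q ((N g ^ m) v) w1 = 1 := by
    rw [hw1, map_add, top, map_smul, B_Npow_zero h2 hg, smul_zero, add_zero]
    exact pow_eq_zero_of_le (by omega) hv
  have aw1 : B Q ((N g ^ m) w1) w1 = 0 := by
    rw [w1m, hw1, map_add, aw, map_smul, B_Npow_zero h2 hg, smul_zero, add_zero]
    exact pow_eq_zero_of_le (by omega) hw
  have cc1 : ∀ j, m ≤ j + (l + 1) → j < m → B Q ((N g ^ j) v) w1 = 0 := by
    intro j hj hjm
    rw [hw1, map_add, map_smul, smul_eq_mul]
    rcases Nat.lt_or_ge (j + l) m with hlt | hge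
    · have hj' : j = m - (l + 1) := by omega
      rw [B_Npow_top h2 hg (by rwa [show j + (l + 1) + 1 = m + 1 by omega]), show j + (l + 1) = m by omega, top,
        mul_one, hj', ← hlam, add_self h2]
    · rw [cc j hge hjm, B_Npow_zero h2 hg, mul_zero, add_zero]
      exact pow_eq_zero_of_le (by omega) hv
  have q1 : ∀ j, m ≤ 2 * j + (l + 1) → Q ((N g ^ j) w1) = Q ((N g ^ j) w) := by
    intro j hj
    rw [hw1, Q_mod h2 hg hw hw aw hs lam hj, aw, mul_zero]
    simp
  -- step 2
  obtain ⟨mu, hmu⟩ : ∃ mu, mu = Q ((N g ^ ((m - (l + 1)) / 2)) v) := ⟨_, rfl⟩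
  obtain ⟨v2, hv2⟩ : ∃ v2, v2 = v + mu • (N g ^ (l + 1)) w1 := ⟨_, rfl⟩
  have v2U : v2 ∈ U := hv2 ▸ U.add_mem hvU (U.smul_mem _ (hU.Npow_mem w1U _))
  have v2z : (N g ^ (m + 1)) v2 = 0 := by rw [hv2, Npow_add_smul_top w1z _ (by omega), hv]
  have v2m : (N g ^ m) v2 = (N g ^ m) v := by rw [hv2, Npow_add_smul_top w1z _ (by omega)]
  have top2 : B Q ((N g ^ m) v2) w1 = 1 := by rw [v2m, top1]
  have av2 : B Q ((N g ^ m) v2) v2 = 0 := by
    rw [v2m, hv2, map_add, av, map_smul, B_Npow_zero h2 hg, smul_zero, add_zero]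
    exact pow_eq_zero_of_le (by omega) hv
  have cc2 : ∀ j, m ≤ j + (l + 1) → j < m → B Q ((N g ^ j) v2) w1 = 0 := by
    intro j hj hjm
    rw [hv2]
    simp only [map_add, map_smul, LinearMap.add_apply, LinearMap.smul_apply, smul_eq_mul]
    rw [cc1 j hj hjm, zero_add, ← pow_add_apply]
    rcases Nat.lt_or_ge m (j + (l + 1)) with hlt | hge
    · rw [pow_eq_zero_of_le (by omega) w1z, map_zero, LinearMap.zero_apply, mul_zero]
    · rw [show j + (l + 1) = m by omega, aw1, mul_zero]
  have q2 : ∀ j, m ≤ 2 * j + (l + 1) → 2 * j < m → Q ((N g ^ j) v2) = 0 := by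
    intro j hj hjm
    rw [hv2, Q_mod h2 hg hv w1z aw1 hs mu hj, top1, mul_one]
    split_ifs with h
    · rw [hmu, show (m - (l + 1)) / 2 = j by omega, add_self h2]
    · rw [qv j (by omega) hjm, add_zero]
  have c2 : ∀ j, 2 * j = m → Q ((N g ^ j) v2) = c := by
    intro j hj
    rw [hv2, Q_mod h2 hg hv w1z aw1 hs mu (by omega), if_neg (by omega), add_zero, cv j hj]
  -- step 3
  obtain ⟨nu, hnu⟩ : ∃ nu, nu = Q ((N g ^ ((m - (l + 1)) / 2)) w1) := ⟨_, rfl⟩
  obtain ⟨w3, hw3⟩ : ∃ w3, w3 = w1 + nu • (N g ^ (l + 1)) v2 := ⟨_, rfl⟩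
  have w3z : (N g ^ (m + 1)) w3 = 0 := by rw [hw3, Npow_add_smul_top v2z _ (by omega), w1z]
  have w3m : (N g ^ m) w3 = (N g ^ m) w1 := by rw [hw3, Npow_add_smul_top v2z _ (by omega)]
  refine ⟨v2, w3, v2U, hw3 ▸ U.add_mem w1U (U.smul_mem _ (hU.Npow_mem v2U _)), v2z, w3z, ?_, av2, ?_, ?_, q2, ?_, c2,
    ?_⟩
  · rw [hw3, map_add, top2, map_smul, B_Npow_zero h2 hg, smul_zero, add_zero]
    exact pow_eq_zero_of_le (by omega) v2z
  · rw [w3m, hw3, map_add, aw1, map_smul, B_Npow_zero h2 hg, smul_zero, add_zero]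
    exact pow_eq_zero_of_le (by omega) w1z
  · intro j hj hjm
    rw [hw3, map_add, map_smul, smul_eq_mul, cc2 j hj hjm, zero_add]
    rcases Nat.lt_or_ge m (j + (l + 1)) with hlt | hge
    · rw [B_Npow_zero h2 hg, mul_zero]
      exact pow_eq_zero_of_le (by omega) v2z
    · rw [B_Npow_top h2 hg (by rwa [show j + (l + 1) + 1 = m + 1 by omega]), show j + (l + 1) = m by omega, av2,
        mul_zero]
  · intro j hj hjm
    rw [hw3, Q_mod h2 hg w1z v2z av2 hs nu hj, top_symm h2 hg w1z, top2, mul_one]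
    split_ifs with h
    · rw [hnu, show (m - (l + 1)) / 2 = j by omega, add_self h2]
    · rw [q1 j hj, qw j (by omega) hjm, add_zero]
  · intro j hj
    rw [hw3, Q_mod h2 hg w1z v2z av2 hs nu (by omega), if_neg (by omega), add_zero, q1 j (by omega), cw j hj]

/-- **standard generators of the hyperbolic pieces** -/
theorem exists_W (h2 : (2 : F) = 0) (hg : ∀ v, Q (g v) = Q v) {U : Submodule F V} (hU : St g U) {m : ℕ} {s : Bool}
    {v w : V} (hvU : v ∈ U) (hwU : w ∈ U) (hv : (N g ^ (m + 1)) v = 0) (hw : (N g ^ (m + 1)) w = 0)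
    (top : B Q ((N g ^ m) v) w = 1) (av : B Q ((N g ^ m) v) v = 0) (aw : B Q ((N g ^ m) w) w = 0)
    (cv : ∀ j, 2 * j = m → Q ((N g ^ j) v) = if s = true then 1 else 0)
    (cw : ∀ j, 2 * j = m → Q ((N g ^ j) w) = if s = true then α else 0) :
    ∃ x ∈ U, ∃ y ∈ U, IsP Q g α (.W (m + 1) s) x y := by
  have key : ∀ l, l ≤ m → ∃ v' w', Lev Q g U m (if s = true then 1 else 0) (if s = true then α else 0) l v' w' := by
    intro l
    induction l with
    | zero =>
      intro _
      exact ⟨v, w, hvU, hwU, hv, hw, top, av, aw, fun j _ _ => by omega, fun j _ _ => by omega,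
        fun j _ _ => by omega, cv, cw⟩
    | succ l ih =>
      intro hl
      obtain ⟨v', w', h⟩ := ih (by omega)
      exact lev_step h2 hg hU h (by omega)
  obtain ⟨x, y, h⟩ := key m le_rfl
  refine ⟨x, h.vU, y, h.wU, h.hv, h.hw, fun j => ?_, fun j => ?_, fun j => ?_⟩
  · rcases lt_trichotomy j m with hj | rfl | hj
    · rw [h.cc j (by omega) hj, if_neg (by omega)]
    · rw [h.top, if_pos rfl]
    · rw [pow_eq_zero_of_le (by omega) h.hv, map_zero, LinearMap.zero_apply, if_neg (by omega)]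
  · rcases lt_trichotomy (2 * j) m with hj | hj | hj
    · rw [h.qv j (by omega) hj, if_neg (by omega)]
    · rw [h.cv j hj]
      by_cases hs : s = true
      · rw [if_pos hs, if_pos ⟨hs, by omega⟩]
      · rw [if_neg hs, if_neg (fun h => hs h.1)]
    · rw [qbig h2 hg h.hv h.av hj, if_neg (by omega)]
  · rcases lt_trichotomy (2 * j) m with hj | hj | hj
    · rw [h.qw j (by omega) hj, if_neg (by omega)]
    · rw [h.cw j hj]
      by_cases hs : s = true
      · rw [if_pos hs, if_pos ⟨hs, by omega⟩]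
      · rw [if_neg hs, if_neg (fun h => hs h.1)]
    · rw [qbig h2 hg h.hw h.aw hj, if_neg (by omega)]

/-- **standard generators of the cyclic pieces** -/
theorem exists_C (h2 : (2 : F) = 0) (hg : ∀ v, Q (g v) = Q v) {U : Submodule F V} (hU : St g U) {k : ℕ} {s : Bool}
    {v : V} (hvU : v ∈ U) (hv : (N g ^ (2 * (k + 1))) v = 0) (hq : Q ((N g ^ (k + 1)) v) = 1)
    (hq' : Q ((N g ^ k) v) = if s = true then α else 0) : ∃ x ∈ U, IsP Q g α (.C (k + 1) s) x 0 := by
  have key : ∀ l, l ≤ k → ∃ x ∈ U, (N g ^ (2 * (k + 1))) x = 0 ∧ Q ((N g ^ (k + 1)) x) = 1 ∧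
      Q ((N g ^ k) x) = (if s = true then α else 0) ∧ ∀ j, k ≤ j + l → j < k → Q ((N g ^ j) x) = 0 := by
    intro l
    induction l with
    | zero =>
      intro _
      exact ⟨v, hvU, hv, hq, hq', fun j _ _ => by omega⟩
    | succ l ih =>
      intro hl
      obtain ⟨x, hxU, hx, hx1, hx2, hx3⟩ := ih (by omega)
      have top : B Q ((N g ^ (2 * k + 1)) x) x = 1 := by rw [← Q_Npow_top h2 hg hx, hx1]
      obtain ⟨j0, hj0⟩ : ∃ j0, j0 = k - (l + 1) := ⟨_, rfl⟩
      obtain ⟨t, ht⟩ : ∃ t, t = 2 * k + 1 - 2 * j0 := ⟨_, rfl⟩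
      have eff : ∀ c : F, ∀ j, j0 ≤ j → Q ((N g ^ j) (x + c • (N g ^ t) x)) =
          Q ((N g ^ j) x) + (if j = j0 then c else 0) := by
        intro c j hj
        rw [map_add, map_smul, ← pow_add_apply, Q_add_smul]
        have e1 : Q ((N g ^ (j + t)) x) = 0 := by
          obtain ⟨r, hr⟩ : ∃ r, j + t = r + 1 := ⟨j + t - 1, by omega⟩
          rw [hr]
          exact Q_Npow_zero h2 hg (pow_eq_zero_of_le (by omega) hx)
        rw [e1, mul_zero, add_zero]
        congr 1
        split_ifs with h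
        · subst h
          rw [B_Npow_top h2 hg (by rwa [show j + (j + t) + 1 = 2 * (k + 1) by omega]),
            show j + (j + t) = 2 * k + 1 by omega, top, mul_one]
        · rw [B_Npow_zero h2 hg, mul_zero]
          exact pow_eq_zero_of_le (by omega) hx
      obtain ⟨c, hc⟩ : ∃ c, c = Q ((N g ^ j0) x) := ⟨_, rfl⟩
      refine ⟨x + c • (N g ^ t) x, U.add_mem hxU (U.smul_mem _ (hU.Npow_mem hxU _)), ?_, ?_, ?_, ?_⟩
      · rw [map_add, map_smul, ← pow_add_apply, hx, pow_eq_zero_of_le (by omega) hx, smul_zero, add_zero]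
      · rw [eff c _ (by omega), if_neg (by omega), add_zero, hx1]
      · rw [eff c _ (by omega), if_neg (by omega), add_zero, hx2]
      · intro j hj hjk
        rw [eff c j (by omega)]
        split_ifs with h
        · subst h; rw [hc, add_self h2]
        · rw [hx3 j (by omega) hjk, add_zero]
  obtain ⟨x, hxU, hx, hx1, hx2, hx3⟩ := key k le_rfl
  refine ⟨x, hxU, rfl, hx, fun j => ?_⟩
  rcases lt_trichotomy j (k + 1) with hj | rfl | hj
  · rcases lt_or_eq_of_le (Nat.lt_succ_iff.1 hj) with hj' | rfl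
    · rw [hx3 j (by omega) hj', if_neg (by omega), if_neg (by omega)]
    · by_cases hs : s = true
      · rw [hx2, if_pos hs, if_neg (by omega), if_pos ⟨hs, rfl⟩]
      · rw [hx2, if_neg hs, if_neg (by omega), if_neg (fun h => hs h.1)]
  · rw [hx1, if_pos rfl]
  · rw [if_neg (by omega), if_neg (by omega)]
    obtain ⟨r, rfl⟩ : ∃ r, j = r + 1 := ⟨j - 1, by omega⟩
    exact Q_Npow_zero h2 hg (pow_eq_zero_of_le (by omega) hx)

end Cfsg.Agent.H170.Uni
end

-- part: H170/Normal
section
/-!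
# Normal form of unipotent isometries of quadratic forms in characteristic two

* `Dec L U` : the subspace `U` is an orthogonal sum of pieces of the types in the list `L`;
* `NF L` : the list is in normal form;
* `exists_normal` : every nondegenerate stable subspace on which `g - 1` is nilpotent has a decomposition in normal form.
-/

set_option autoImplicit false

namespace Cfsg.Agent.H170.Uni

open LinearMap Module QuadraticMap

variable {F : Type*} [Field F] {V : Type*} [AddCommGroup V] [Module F V]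

/-- `U` is an orthogonal sum of pieces of the types in the list -/
inductive Dec (Q : QuadraticForm F V) (g : V ≃ₗ[F] V) (α : F) : List Piece → Submodule F V → Prop
  | nil : Dec Q g α [] ⊥
  | cons (p : Piece) (L : List Piece) (x y : V) (U : Submodule F V) (hp : IsP Q g α p x y)
      (ho : ∀ a ∈ Cyc g x y, ∀ b ∈ U, B Q a b = 0) (h : Dec Q g α L U) : Dec Q g α (p :: L) (Cyc g x y ⊔ U)

/-- normal forms -/
structure NF (L : List Piece) : Prop where
  pos : ∀ p ∈ L, 0 < p.size
  wodd : ∀ m, Piece.W m true ∈ L → Odd m ∧ ∀ s, Piece.C (m / 2) s ∉ L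
  cmin : ∀ k, Piece.C k true ∈ L → (∀ s, Piece.C (k - 1) s ∉ L) ∧ ∀ s, Piece.W (2 * k - 1) s ∉ L
  cntW : ∀ m, L.count (Piece.W m true) ≤ 1
  cntC : ∀ k, L.count (Piece.C k true) ≤ 1
  cnt : ∀ k, L.count (Piece.C k true) + L.count (Piece.C k false) ≤ 2

variable {Q : QuadraticForm F V} {g : V ≃ₗ[F] V} {α : F}

theorem Dec.mem {L : List Piece} {U : Submodule F V} (h : Dec Q g α L U) {p : Piece} (hp : p ∈ L) :
    ∃ x ∈ U, ∃ y ∈ U, IsP Q g α p x y := by
  induction h with
  | nil => simp at hp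
  | cons p' L x y U hp' ho h ih =>
    rcases List.mem_cons.1 hp with rfl | hp
    · exact ⟨x, Submodule.mem_sup_left (mem_Cyc_left g x y), y, Submodule.mem_sup_left (mem_Cyc_right g x y), hp'⟩
    · obtain ⟨x', hx', y', hy', h'⟩ := ih hp
      exact ⟨x', Submodule.mem_sup_right hx', y', Submodule.mem_sup_right hy', h'⟩

theorem Dec.len_le (h2 : (2 : F) = 0) (hg : ∀ v, Q (g v) = Q v) {L : List Piece} {U : Submodule F V}
    (h : Dec Q g α L U) {i : ℕ} (hi : ∀ u ∈ U, (N g ^ i) u = 0) {p : Piece} (hp : p ∈ L) : p.len ≤ i := by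
  obtain ⟨x, hx, y, hy, hp⟩ := h.mem hp
  by_contra hlt
  exact hp.pow_ne h2 hg (not_le.1 hlt) (hi x hx)

theorem St.sup {U W : Submodule F V} (hU : St g U) (hW : St g W) : St g (U ⊔ W) := by
  intro v hv
  obtain ⟨a, ha, b, hb, rfl⟩ := Submodule.mem_sup.1 hv
  rw [map_add]
  exact Submodule.add_mem _ (Submodule.mem_sup_left (hU a ha)) (Submodule.mem_sup_right (hW b hb))

theorem Dec.st {L : List Piece} {U : Submodule F V} (h : Dec Q g α L U) : St g U := by
  induction h with
  | nil => intro v hv; rw [Submodule.mem_bot] at hv ⊢; rw [hv, map_zero]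
  | cons p L x y U hp ho h ih => exact (Cyc_st g x y).sup ih

/-- two cyclic pieces of the same size -/
theorem Dec.mem_two {L : List Piece} {U : Submodule F V} (h : Dec Q g α L U) {k : ℕ}
    (hk : 2 ≤ L.count (Piece.C k true) + L.count (Piece.C k false)) :
    ∃ x ∈ U, ∃ y ∈ U, (∃ s, IsP Q g α (.C k s) x 0) ∧ (∃ s, IsP Q g α (.C k s) y 0) ∧
      ∀ a b, B Q ((N g ^ a) x) ((N g ^ b) y) = 0 := by
  induction h with
  | nil => simp at hk
  | cons p L x y U hp ho h ih =>
    by_cases hL : 2 ≤ L.count (Piece.C k true) + L.count (Piece.C k false)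
    · obtain ⟨x', hx', y', hy', h'⟩ := ih hL
      exact ⟨x', Submodule.mem_sup_right hx', y', Submodule.mem_sup_right hy', h'⟩
    · have hp' : ∃ s, p = Piece.C k s := by
        by_contra hne
        push Not at hne
        rw [List.count_cons_of_ne (hne true), List.count_cons_of_ne (hne false)] at hk
        exact hL hk
      obtain ⟨s, rfl⟩ := hp'
      have hL' : ∃ s', Piece.C k s' ∈ L := by
        by_contra hne
        push Not at hne
        rw [List.count_cons, List.count_cons, List.count_eq_zero_of_not_mem (hne true),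
          List.count_eq_zero_of_not_mem (hne false)] at hk
        cases s <;> simp at hk
      obtain ⟨s', hs'⟩ := hL'
      obtain ⟨x', hx', y', hy', h'⟩ := h.mem hs'
      have hy0 : y = 0 := hp.1
      have hy0' : y' = 0 := h'.1
      subst hy0 hy0'
      exact ⟨x, Submodule.mem_sup_left (mem_Cyc_left g x 0), x', Submodule.mem_sup_right hx', ⟨s, hp⟩, ⟨s', h'⟩,
        fun a b => ho _ (Npow_mem_Cyc_left g x 0 a) _ (h.st.Npow_mem hx' b)⟩

/-- splitting off a piece -/
theorem Dec.of_comp [FiniteDimensional F V] (h2 : (2 : F) = 0) (hg : ∀ v, Q (g v) = Q v) {U : Submodule F V}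
    (hU : St g U) {p : Piece} {L : List Piece} {x y : V} (hx : x ∈ U) (hy : y ∈ U) (hp : IsP Q g α p x y)
    (h : Dec Q g α L (comp Q (Cyc g x y) U)) : Dec Q g α (p :: L) U := by
  have h1 := Dec.cons p L x y _ hp (fun a ha b hb => ((mem_comp Q).1 hb).1 a ha) h
  rwa [comp_sup Q (hp.nd_finrank h2 hg).1 (Cyc_le hU hx hy)] at h1

/-- the values of the forms on sums of orthogonal vectors -/
theorem Q_Npow_add_orth {x y : V} {c : F} {j : ℕ} (h : B Q ((N g ^ j) x) ((N g ^ j) y) = 0) :
    Q ((N g ^ j) (x + c • y)) = Q ((N g ^ j) x) + c * c * Q ((N g ^ j) y) := by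
  rw [map_add, map_smul, Q_add_smul, h, mul_zero, add_zero]

section main

theorem exists_pair {U : Submodule F V} (hU : St g U) (hnd : Nd Q U) {m : ℕ} {v : V} (hv : v ∈ U)
    (hne : (N g ^ m) v ≠ 0) : ∃ w ∈ U, B Q ((N g ^ m) v) w = 1 := by
  by_contra hcon
  push Not at hcon
  apply hne
  apply hnd _ (hU.Npow_mem hv m)
  intro w hw
  by_contra h
  apply hcon ((B Q ((N g ^ m) v) w)⁻¹ • w) (U.smul_mem _ hw)
  rw [map_smul, smul_eq_mul, inv_mul_cancel₀ h]

variable (h2 : (2 : F) = 0) (hsq : ∀ c : F, ∃ d, d * d = c)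
  (hα : ∀ r : F, (∃ l, l * l + l = r) ∨ ∃ l, l * l + l = r + α) (hg : ∀ v, Q (g v) = Q v)

include h2 hg

theorem alt_even {k : ℕ} {v : V} (hv : (N g ^ (2 * k + 1)) v = 0) : B Q ((N g ^ (2 * k)) v) v = 0 :=
  alt_top h2 hg hv fun j hj => by omega

/-- the value of the middle form on a sum, odd length -/
theorem Q_mid_add {k : ℕ} {v w : V} (hv : (N g ^ (2 * k + 1)) v = 0) (c : F) :
    Q ((N g ^ k) (w + c • v)) = Q ((N g ^ k) w) + c * c * Q ((N g ^ k) v) + c * B Q ((N g ^ (2 * k)) v) w := by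
  rw [map_add, map_smul, Q_add_smul, B_comm, B_Npow_top h2 hg, two_mul]
  rwa [← two_mul]

theorem caseA1 {U : Submodule F V} (hU : St g U) (hnd : Nd Q U) {k : ℕ} (hN : ∀ u ∈ U, (N g ^ (2 * k + 1)) u = 0)
    {v : V} (hv : v ∈ U) (hne : (N g ^ (2 * k)) v ≠ 0) (hq : Q ((N g ^ k) v) = 0) :
    ∃ x ∈ U, ∃ y ∈ U, IsP Q g α (.W (2 * k + 1) false) x y := by
  obtain ⟨w, hw, hvw⟩ := exists_pair hU hnd hv hne
  refine exists_W h2 hg hU hv (U.add_mem hw (U.smul_mem (Q ((N g ^ k) w)) hv)) (hN v hv)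
    (hN _ (U.add_mem hw (U.smul_mem _ hv))) ?_ (alt_even h2 hg (hN v hv))
    (alt_even h2 hg (hN _ (U.add_mem hw (U.smul_mem _ hv)))) ?_ ?_
  · rw [map_add, map_smul, hvw, alt_even h2 hg (hN v hv), smul_zero, add_zero]
  · intro j hj
    obtain rfl : j = k := by omega
    rw [hq]; simp
  · intro j hj
    obtain rfl : j = k := by omega
    rw [Q_mid_add h2 hg (hN v hv), hq, hvw, mul_zero, mul_one, add_zero, add_self h2]; simp

include hsq hα

theorem caseA2 {U : Submodule F V} (hU : St g U) (hnd : Nd Q U) {k : ℕ} (hN : ∀ u ∈ U, (N g ^ (2 * k + 1)) u = 0)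
    (hA : ∀ v ∈ U, (N g ^ (2 * k)) v ≠ 0 → Q ((N g ^ k) v) ≠ 0)
    {v : V} (hv : v ∈ U) (hne : (N g ^ (2 * k)) v ≠ 0) :
    ∃ x ∈ U, ∃ y ∈ U, IsP Q g α (.W (2 * k + 1) true) x y := by
  obtain ⟨c, hc⟩ := hsq (Q ((N g ^ k) v))⁻¹
  have hqv := hA v hv hne
  have hc0 : c ≠ 0 := by
    rintro rfl
    rw [mul_zero] at hc
    exact hqv (inv_eq_zero.1 hc.symm)
  obtain ⟨v1, hv1⟩ : ∃ v1, v1 = c • v := ⟨_, rfl⟩
  have hv1U : v1 ∈ U := hv1 ▸ U.smul_mem _ hv
  have hv1ne : (N g ^ (2 * k)) v1 ≠ 0 := by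
    rw [hv1, map_smul]
    exact smul_ne_zero hc0 hne
  have hq1 : Q ((N g ^ k) v1) = 1 := by
    rw [hv1, map_smul, Q_smul, hc, inv_mul_cancel₀ hqv]
  obtain ⟨w, hw, hvw⟩ := exists_pair hU hnd hv1U hv1ne
  have key : ∃ l, l * l + l = Q ((N g ^ k) w) + α := by
    rcases hα (Q ((N g ^ k) w)) with ⟨l, hl⟩ | h
    · exfalso
      have hwU : w + l • v1 ∈ U := U.add_mem hw (U.smul_mem _ hv1U)
      refine hA _ hwU ?_ ?_
      · intro h0
        have h1 : B Q ((N g ^ (2 * k)) (w + l • v1)) v1 = 1 := by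
          rw [map_add, map_smul, map_add, map_smul, LinearMap.add_apply, LinearMap.smul_apply,
            alt_even h2 hg (hN v1 hv1U), smul_zero, add_zero, top_symm h2 hg (hN w hw), hvw]
        rw [h0, map_zero, LinearMap.zero_apply] at h1
        exact zero_ne_one h1
      · rw [Q_mid_add h2 hg (hN v1 hv1U), hq1, hvw, mul_one, mul_one, ← hl]
        linear_combination (l * l + l) * h2
    · exact h
  obtain ⟨l, hl⟩ := key
  have hwU : w + l • v1 ∈ U := U.add_mem hw (U.smul_mem _ hv1U)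
  refine exists_W h2 hg hU hv1U hwU (hN v1 hv1U) (hN _ hwU) ?_ (alt_even h2 hg (hN v1 hv1U))
    (alt_even h2 hg (hN _ hwU)) ?_ ?_
  · rw [map_add, map_smul, hvw, alt_even h2 hg (hN v1 hv1U), smul_zero, add_zero]
  · intro j hj
    obtain rfl : j = k := by omega
    rw [hq1]; simp
  · intro j hj
    obtain rfl : j = k := by omega
    rw [Q_mid_add h2 hg (hN v1 hv1U), hq1, hvw, mul_one, mul_one]
    simp only [if_true]
    linear_combination hl + Q ((N g ^ j) w) * h2

omit hα in
omit hg in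
theorem exclA {U : Submodule F V} {k : ℕ}
    (hA : ∀ v ∈ U, (N g ^ (2 * k)) v ≠ 0 → Q ((N g ^ k) v) ≠ 0) {x y : V} (hx : x ∈ U)
    (hp : IsP Q g α (.W (2 * k + 1) true) x y) {z : V} (hz : z ∈ comp Q (Cyc g x y) U)
    (hzst : ∀ j, (N g ^ j) z ∈ comp Q (Cyc g x y) U) : Q ((N g ^ k) z) = 0 := by
  by_contra hne
  obtain ⟨c, hc⟩ := hsq (Q ((N g ^ k) z))
  have hc0 : c ≠ 0 := by
    rintro rfl
    rw [mul_zero] at hc
    exact hne hc.symm
  refine hA (z + c • x) (U.add_mem (comp_le Q _ _ hz) (U.smul_mem _ hx)) ?_ ?_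
  · intro h0
    have h1 : B Q ((N g ^ (2 * k)) (z + c • x)) y = c := by
      rw [map_add, map_smul, map_add, map_smul, LinearMap.add_apply, LinearMap.smul_apply, hp.2.2.1, if_pos rfl,
        B_comm, ((mem_comp Q).1 (hzst (2 * k))).1 y (mem_Cyc_right g x y), zero_add, smul_eq_mul, mul_one]
    rw [h0, map_zero, LinearMap.zero_apply] at h1
    exact hc0 h1.symm
  · rw [Q_Npow_add_orth, hp.2.2.2.1, if_pos ⟨rfl, rfl⟩, mul_one, hc, add_self h2]
    rw [B_comm]
    exact ((mem_comp Q).1 (hzst k)).1 _ (Npow_mem_Cyc_left g x y k)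

omit hsq hα in
theorem caseB1 {U : Submodule F V} (hU : St g U) {k : ℕ} (hN : ∀ u ∈ U, (N g ^ (2 * k + 2)) u = 0)
    {v w : V} (hv : v ∈ U) (hw : w ∈ U) (hvw : B Q ((N g ^ (2 * k + 1)) v) w ≠ 0)
    (av : B Q ((N g ^ (2 * k + 1)) v) v = 0) (aw : B Q ((N g ^ (2 * k + 1)) w) w = 0) :
    ∃ x ∈ U, ∃ y ∈ U, IsP Q g α (.W (2 * k + 2) false) x y := by
  obtain ⟨w1, hw1⟩ : ∃ w1, w1 = (B Q ((N g ^ (2 * k + 1)) v) w)⁻¹ • w := ⟨_, rfl⟩
  have hw1U : w1 ∈ U := hw1 ▸ U.smul_mem _ hw
  refine exists_W h2 hg hU hv hw1U (hN v hv) (hN _ hw1U) ?_ av ?_ ?_ ?_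
  · rw [hw1, map_smul, smul_eq_mul, inv_mul_cancel₀ hvw]
  · rw [hw1, map_smul, map_smul, map_smul, LinearMap.smul_apply, aw, smul_zero, smul_zero]
  · intro j hj; omega
  · intro j hj; omega

omit hsq hα in
theorem caseB2a {U : Submodule F V} (hU : St g U) {k : ℕ} (hN : ∀ u ∈ U, (N g ^ (2 * k + 2)) u = 0)
    {v : V} (hv : v ∈ U) (hq : Q ((N g ^ (k + 1)) v) = 1) (hq' : Q ((N g ^ k) v) = 0) :
    ∃ x ∈ U, IsP Q g α (.C (k + 1) false) x 0 :=
  exists_C h2 hg hU hv (hN v hv) hq (by rw [hq']; simp)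

theorem caseB2b {U : Submodule F V} (hU : St g U) {k : ℕ} (hN : ∀ u ∈ U, (N g ^ (2 * k + 2)) u = 0)
    (hB : ∀ v ∈ U, Q ((N g ^ (k + 1)) v) = 1 → Q ((N g ^ k) v) ≠ 0)
    {v : V} (hv : v ∈ U) (hne : Q ((N g ^ (k + 1)) v) ≠ 0) :
    ∃ x ∈ U, IsP Q g α (.C (k + 1) true) x 0 := by
  obtain ⟨c, hc⟩ := hsq (Q ((N g ^ (k + 1)) v))⁻¹
  obtain ⟨v1, hv1⟩ : ∃ v1, v1 = c • v := ⟨_, rfl⟩
  have hv1U : v1 ∈ U := hv1 ▸ U.smul_mem _ hv
  have hq1 : Q ((N g ^ (k + 1)) v1) = 1 := by
    rw [hv1, map_smul, Q_smul, hc, inv_mul_cancel₀ hne]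
  have e1 : ∀ l : F, Q ((N g ^ (k + 1)) (v1 + l • N g v1)) = 1 := by
    intro l
    rw [map_add, map_smul, ← pow_succ_apply', Q_add_smul, hq1, B_Npow_zero h2 hg (pow_eq_zero_of_le (by omega)
      (hN v1 hv1U)), Q_Npow_zero h2 hg (pow_eq_zero_of_le (by omega) (hN v1 hv1U))]
    ring
  have e2 : ∀ l : F, Q ((N g ^ k) (v1 + l • N g v1)) = Q ((N g ^ k) v1) + l * l + l := by
    intro l
    rw [map_add, map_smul, ← pow_succ_apply', Q_add_smul, ← Q_Npow_succ h2 hg, hq1]
    ring
  have hmem : ∀ l : F, v1 + l • N g v1 ∈ U := fun l => U.add_mem hv1U (U.smul_mem _ (hU.N_mem hv1U))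
  rcases hα (Q ((N g ^ k) v1)) with ⟨l, hl⟩ | ⟨l, hl⟩
  · exfalso
    refine hB _ (hmem l) (e1 l) ?_
    rw [e2, ← hl]
    linear_combination (l * l + l) * h2
  · refine exists_C h2 hg hU (hmem l) (hN _ (hmem l)) (e1 l) ?_
    rw [e2]
    simp only [if_true]
    linear_combination hl + Q ((N g ^ k) v1) * h2

omit hα in
omit hg in
theorem exclB {U : Submodule F V} {k : ℕ}
    (hB : ∀ v ∈ U, Q ((N g ^ (k + 1)) v) = 1 → Q ((N g ^ k) v) ≠ 0) {x : V} (hx : x ∈ U)
    (hp : IsP Q g α (.C (k + 1) true) x 0) {z : V} (hz : z ∈ comp Q (Cyc g x 0) U)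
    (hzst : ∀ j, (N g ^ j) z ∈ comp Q (Cyc g x 0) U) (hq : Q ((N g ^ (k + 1)) z) = 0) : Q ((N g ^ k) z) = 0 := by
  by_contra hne
  obtain ⟨c, hc⟩ := hsq (α * (Q ((N g ^ k) z))⁻¹)
  have ho : ∀ j, B Q ((N g ^ j) x) ((N g ^ j) z) = 0 := fun j =>
    ((mem_comp Q).1 (hzst j)).1 _ (Npow_mem_Cyc_left g x 0 j)
  refine hB (x + c • z) (U.add_mem hx (U.smul_mem _ (comp_le Q _ _ hz))) ?_ ?_
  · rw [Q_Npow_add_orth (ho _), hq, mul_zero, add_zero, hp.2.2, if_pos rfl]
  · rw [Q_Npow_add_orth (ho _), hc, hp.2.2, if_neg (by omega), if_pos ⟨rfl, rfl⟩, mul_assoc, inv_mul_cancel₀ hne,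
      mul_one, add_self h2]

end main

end Cfsg.Agent.H170.Uni
end

-- part: H170/NormalMain
section
/-!
# Existence of the normal form
-/

set_option autoImplicit false

namespace Cfsg.Agent.H170.Uni

open LinearMap Module QuadraticMap

variable {F : Type*} [Field F] {V : Type*} [AddCommGroup V] [Module F V]

theorem NF.nil : NF [] := by
  constructor <;> simp

theorem NF.cons {p : Piece} {L : List Piece} (h : NF L) (c1 : 0 < p.size)
    (c2 : ∀ m, p = .W m true → Odd m ∧ (∀ s, Piece.C (m / 2) s ∉ L) ∧ Piece.W m true ∉ L)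
    (c3 : ∀ m, Piece.W m true ∈ L → ∀ s, p ≠ .C (m / 2) s)
    (c4 : ∀ k, p = .C k true → (∀ s, Piece.C (k - 1) s ∉ L) ∧ (∀ s, Piece.W (2 * k - 1) s ∉ L) ∧ Piece.C k true ∉ L)
    (c5 : ∀ k, Piece.C k true ∈ L → (∀ s, p ≠ .C (k - 1) s) ∧ ∀ s, p ≠ .W (2 * k - 1) s)
    (c6 : ∀ k s, p = .C k s → L.count (Piece.C k true) + L.count (Piece.C k false) ≤ 1) : NF (p :: L) := by
  refine ⟨?_, ?_, ?_, ?_, ?_, ?_⟩
  · intro p' hp'
    rcases List.mem_cons.1 hp' with rfl | hp'
    · exact c1
    · exact h.pos p' hp'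
  · intro m hm
    rcases List.mem_cons.1 hm with hm | hm
    · obtain ⟨h1, h3, -⟩ := c2 m hm.symm
      refine ⟨h1, fun s hs => ?_⟩
      rcases List.mem_cons.1 hs with hs | hs
      · rw [← hm] at hs; exact Piece.noConfusion hs
      · exact h3 s hs
    · refine ⟨(h.wodd m hm).1, fun s hs => ?_⟩
      rcases List.mem_cons.1 hs with hs | hs
      · exact c3 m hm s hs.symm
      · exact (h.wodd m hm).2 s hs
  · intro k hk
    rcases List.mem_cons.1 hk with hk | hk
    · obtain ⟨h1, h3, -⟩ := c4 k hk.symm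
      refine ⟨fun s hs => ?_, fun s hs => ?_⟩
      · rcases List.mem_cons.1 hs with hs | hs
        · rw [← hk] at hs c1
          simp only [Piece.C.injEq] at hs
          simp only [Piece.size] at c1
          omega
        · exact h1 s hs
      · rcases List.mem_cons.1 hs with hs | hs
        · rw [← hk] at hs; exact Piece.noConfusion hs
        · exact h3 s hs
    · refine ⟨fun s hs => ?_, fun s hs => ?_⟩
      · rcases List.mem_cons.1 hs with hs | hs
        · exact (c5 k hk).1 s hs.symm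
        · exact (h.cmin k hk).1 s hs
      · rcases List.mem_cons.1 hs with hs | hs
        · exact (c5 k hk).2 s hs.symm
        · exact (h.cmin k hk).2 s hs
  · intro m
    rw [List.count_cons]
    split_ifs with hp
    · rw [List.count_eq_zero_of_not_mem (c2 m (by simpa using hp)).2.2]
    · exact h.cntW m
  · intro k
    rw [List.count_cons]
    split_ifs with hp
    · rw [List.count_eq_zero_of_not_mem (c4 k (by simpa using hp)).2.2]
    · exact h.cntC k
  · intro k
    rw [List.count_cons, List.count_cons]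
    by_cases hp : ∃ s, p = .C k s
    · obtain ⟨s, rfl⟩ := hp
      have := c6 k s rfl
      cases s <;> simp <;> omega
    · push Not at hp
      have e1 : (p == Piece.C k true) = false := by simpa using hp true
      have e2 : (p == Piece.C k false) = false := by simpa using hp false
      rw [e1, e2]
      simpa using h.cnt k

variable {Q : QuadraticForm F V} {g : V ≃ₗ[F] V} {α : F}

/-- **Existence of the normal form.** -/
theorem exists_normal [FiniteDimensional F V] (h2 : (2 : F) = 0) (hsq : ∀ c : F, ∃ d, d * d = c)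
    (hα : ∀ r : F, (∃ l, l * l + l = r) ∨ ∃ l, l * l + l = r + α) (hg : ∀ v, Q (g v) = Q v) (n : ℕ)
    (U : Submodule F V) (hU : St g U) (hnd : Nd Q U) (hnil : ∃ M, ∀ u ∈ U, (N g ^ M) u = 0) (hn : finrank F U = n) :
    ∃ L, Dec Q g α L U ∧ NF L := by
  classical
  induction n using Nat.strong_induction_on generalizing U with
  | _ n ih =>
    by_cases hbot : U = ⊥
    · subst hbot
      exact ⟨[], Dec.nil, NF.nil⟩
    -- the nilpotency index
    obtain ⟨i, hi, hmin⟩ : ∃ i, (∀ u ∈ U, (N g ^ i) u = 0) ∧ ∀ j, j < i → ¬ ∀ u ∈ U, (N g ^ j) u = 0 :=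
      ⟨Nat.find hnil, Nat.find_spec hnil, fun j hj => Nat.find_min hnil hj⟩
    have hi0 : i ≠ 0 := by
      rintro rfl
      apply hbot
      rw [Submodule.eq_bot_iff]
      intro u hu
      exact hi u hu
    obtain ⟨m, rfl⟩ : ∃ m, i = m + 1 := ⟨i - 1, by omega⟩
    have hne := hmin m (Nat.lt_succ_self m)
    push Not at hne
    obtain ⟨u, huU, hu⟩ := hne
    -- splitting off a piece
    have split : ∀ (p : Piece) (x y : V), x ∈ U → y ∈ U → IsP Q g α p x y → 0 < p.size →
        ∃ L, Dec Q g α L (comp Q (Cyc g x y) U) ∧ NF L ∧ (∀ p' ∈ L, p'.len ≤ m + 1) ∧ Dec Q g α (p :: L) U := by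
      intro p x y hx hy hp hpos
      have hPU : Cyc g x y ≤ U := Cyc_le hU hx hy
      have hPnd := hp.nd_finrank h2 hg
      have hst : St g (comp Q (Cyc g x y) U) := comp_st hg (Cyc_st g x y) hU
      have hnd' : Nd Q (comp Q (Cyc g x y) U) := comp_nd Q hPnd.1 hPU hnd
      have hfr := finrank_comp Q hPnd.1 hPU
      rw [hPnd.2] at hfr
      obtain ⟨L, hL1, hL2⟩ := ih _ (by omega) (comp Q (Cyc g x y) U) hst hnd'
        ⟨m + 1, fun v hv => hi v (comp_le Q _ _ hv)⟩ rfl
      exact ⟨L, hL1, hL2, fun p' hp' => hL1.len_le h2 hg (fun v hv => hi v (comp_le Q _ _ hv)) hp',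
        hL1.of_comp h2 hg hU hx hy hp⟩
    rcases Nat.even_or_odd' m with ⟨k, rfl | rfl⟩
    · -- odd length
      by_cases hA : ∀ v ∈ U, (N g ^ (2 * k)) v ≠ 0 → Q ((N g ^ k) v) ≠ 0
      · obtain ⟨x, hx, y, hy, hp⟩ := caseA2 h2 hsq hα hg hU hnd hi hA huU hu
        obtain ⟨L, hL, hNF, hlen, hD⟩ := split _ x y hx hy hp (by simp [Piece.size])
        have hst := hL.st
        have ex : ∀ z ∈ comp Q (Cyc g x y) U, Q ((N g ^ k) z) = 0 := fun z hz =>
          exclA h2 hsq hA hx hp hz (fun j => hst.Npow_mem hz j)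
        have exC : ∀ s, Piece.C k s ∉ L := by
          intro s hs
          obtain ⟨z, hz, y', -, hz'⟩ := hL.mem hs
          have h1 := ex z hz
          rw [hz'.2.2, if_pos rfl] at h1
          exact one_ne_zero h1
        have exW : ∀ s, Piece.W (2 * k + 1) s ∉ L := by
          intro s hs
          obtain ⟨z, hz, y', -, hz'⟩ := hL.mem hs
          exact hA z (comp_le Q _ _ hz) (hz'.pow_ne h2 hg (by simp [Piece.len])) (ex z hz)
        refine ⟨_, hD, hNF.cons (by simp [Piece.size]) ?_ ?_ ?_ ?_ ?_⟩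
        · intro m' hm'
          simp only [Piece.W.injEq, and_true] at hm'
          subst hm'
          refine ⟨⟨k, rfl⟩, fun s => ?_, exW true⟩
          rw [show (2 * k + 1) / 2 = k by omega]
          exact exC s
        · intro m' _ s h; exact Piece.noConfusion h
        · intro m' h; exact Piece.noConfusion h
        · intro k' hk'
          refine ⟨fun s h => Piece.noConfusion h, fun s h => ?_⟩
          simp only [Piece.W.injEq] at h
          have := hlen _ hk'
          simp only [Piece.len] at this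
          omega
        · intro k' s h; exact Piece.noConfusion h
      · push Not at hA
        obtain ⟨v, hv, hvne, hvq⟩ := hA
        obtain ⟨x, hx, y, hy, hp⟩ := caseA1 (α := α) h2 hg hU hnd hi hv hvne hvq
        obtain ⟨L, hL, hNF, hlen, hD⟩ := split _ x y hx hy hp (by simp [Piece.size])
        refine ⟨_, hD, hNF.cons (by simp [Piece.size]) ?_ ?_ ?_ ?_ ?_⟩
        · intro m' hm'
          simp at hm'
        · intro m' _ s h; exact Piece.noConfusion h
        · intro m' h; exact Piece.noConfusion h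
        · intro k' hk'
          refine ⟨fun s h => Piece.noConfusion h, fun s h => ?_⟩
          simp only [Piece.W.injEq] at h
          have := hlen _ hk'
          simp only [Piece.len] at this
          omega
        · intro k' s h; exact Piece.noConfusion h
    · -- even length
      by_cases hB1 : ∃ v ∈ U, ∃ w ∈ U, B Q ((N g ^ (2 * k + 1)) v) w ≠ 0 ∧ B Q ((N g ^ (2 * k + 1)) v) v = 0 ∧
          B Q ((N g ^ (2 * k + 1)) w) w = 0
      · obtain ⟨v, hv, w, hw, hvw, av, aw⟩ := hB1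
        obtain ⟨x, hx, y, hy, hp⟩ := caseB1 (α := α) h2 hg hU hi hv hw hvw av aw
        obtain ⟨L, hL, hNF, hlen, hD⟩ := split _ x y hx hy hp (by simp [Piece.size])
        refine ⟨_, hD, hNF.cons (by simp [Piece.size]) ?_ ?_ ?_ ?_ ?_⟩
        · intro m' hm'
          simp at hm'
        · intro m' _ s h; exact Piece.noConfusion h
        · intro m' h; exact Piece.noConfusion h
        · intro k' hk'
          refine ⟨fun s h => Piece.noConfusion h, fun s h => ?_⟩
          simp only [Piece.W.injEq] at h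
          omega
        · intro k' s h; exact Piece.noConfusion h
      · push Not at hB1
        -- no hyperbolic pair
        have hnp : ∀ v ∈ U, ∀ w ∈ U, B Q ((N g ^ (2 * k + 1)) v) v = 0 → B Q ((N g ^ (2 * k + 1)) w) w = 0 →
            B Q ((N g ^ (2 * k + 1)) v) w = 0 := by
          intro v hv w hw av aw
          by_contra hne
          exact hB1 v hv w hw hne av aw
        have htop : ∀ v ∈ U, Q ((N g ^ (k + 1)) v) = B Q ((N g ^ (2 * k + 1)) v) v := fun v hv =>
          Q_Npow_top h2 hg (hi v hv)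
        obtain ⟨z0, hz0, hz0q⟩ : ∃ z ∈ U, Q ((N g ^ (k + 1)) z) ≠ 0 := by
          obtain ⟨w, hw, hvw⟩ := exists_pair hU hnd huU hu
          by_contra hcon
          push Not at hcon
          have h1 := hnp u huU w hw (by rw [← htop u huU, hcon u huU]) (by rw [← htop w hw, hcon w hw])
          rw [hvw] at h1
          exact one_ne_zero h1
        -- at most one further cyclic piece
        have hcnt : ∀ (s : Bool) (x : V) (L : List Piece), x ∈ U → IsP Q g α (.C (k + 1) s) x 0 →
            Dec Q g α L (comp Q (Cyc g x 0) U) →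
            L.count (Piece.C (k + 1) true) + L.count (Piece.C (k + 1) false) ≤ 1 := by
          intro s x L hx hp hL
          by_contra hlt
          obtain ⟨x1, hx1, x2, hx2, ⟨s1, hp1⟩, ⟨s2, hp2⟩, h12⟩ := hL.mem_two (k := k + 1) (by omega)
          have hst := hL.st
          have o1 : ∀ a b, B Q ((N g ^ a) x) ((N g ^ b) x1) = 0 := fun a b =>
            ((mem_comp Q).1 (hst.Npow_mem hx1 b)).1 _ (Npow_mem_Cyc_left g x 0 a)
          have o2 : ∀ a b, B Q ((N g ^ a) x) ((N g ^ b) x2) = 0 := fun a b =>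
            ((mem_comp Q).1 (hst.Npow_mem hx2 b)).1 _ (Npow_mem_Cyc_left g x 0 a)
          have t := C_top h2 hg hp
          have t1 := C_top h2 hg hp1
          have t2 := C_top h2 hg hp2
          have o1' := o1 (2 * k + 1) 0
          have o1'' := o1 0 (2 * k + 1)
          have o2' := o2 (2 * k + 1) 0
          have h12' := h12 (2 * k + 1) 0
          have h12'' := h12 0 (2 * k + 1)
          rw [B_comm] at o1'' h12''
          rw [pow_zero_apply] at o1' o1'' o2' h12' h12''
          have hx1U := comp_le Q _ _ hx1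
          have hx2U := comp_le Q _ _ hx2
          have h3 := hnp (x + x1) (U.add_mem hx hx1U) (x1 + x2) (U.add_mem hx1U hx2U)
            (by
              simp only [map_add, LinearMap.add_apply]
              rw [t, t1, o1', o1'', add_zero, zero_add, add_self h2])
            (by
              simp only [map_add, LinearMap.add_apply]
              rw [t1, t2, h12', h12'', add_zero, zero_add, add_self h2])
          simp only [map_add, LinearMap.add_apply] at h3
          rw [o1', o2', t1, h12'] at h3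
          simp at h3
        by_cases hB2 : ∀ v ∈ U, Q ((N g ^ (k + 1)) v) = 1 → Q ((N g ^ k) v) ≠ 0
        · obtain ⟨x, hx, hp⟩ := caseB2b h2 hsq hα hg hU hi hB2 hz0 hz0q
          obtain ⟨L, hL, hNF, hlen, hD⟩ := split _ x 0 hx (Submodule.zero_mem _) hp (by simp [Piece.size])
          have hst := hL.st
          have ex : ∀ z ∈ comp Q (Cyc g x 0) U, Q ((N g ^ (k + 1)) z) = 0 → Q ((N g ^ k) z) = 0 := fun z hz =>
            exclB h2 hsq hB2 hx hp hz (fun j => hst.Npow_mem hz j)
          have exC1 : ∀ s, Piece.C (k + 1) s ∉ L := by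
            intro s hs
            obtain ⟨z, hz, y', -, hz'⟩ := hL.mem hs
            have h1 := ex (N g z) (hst.N_mem hz) (by
              rw [← pow_succ_apply', hz'.2.2, if_neg (by omega), if_neg (by omega)])
            rw [← pow_succ_apply', hz'.2.2, if_pos rfl] at h1
            exact one_ne_zero h1
          have exC : ∀ s, Piece.C k s ∉ L := by
            intro s hs
            obtain ⟨z, hz, y', -, hz'⟩ := hL.mem hs
            have h1 := ex z hz (by rw [hz'.2.2, if_neg (by omega), if_neg (by omega)])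
            rw [hz'.2.2, if_pos rfl] at h1
            exact one_ne_zero h1
          have exW : ∀ s, Piece.W (2 * k + 1) s ∉ L := by
            intro s hs
            obtain ⟨z, hz, y', hy', hz'⟩ := hL.mem hs
            have hz1 := hz'.1
            have hy1 := hz'.2.1
            cases s
            · have h1 := ex (z + y') (Submodule.add_mem _ hz hy') (by
                rw [map_add, Q_add, hz'.2.2.2.1, hz'.2.2.2.2, if_neg (by simp), if_neg (by simp),
                  B_Npow_zero h2 hg (pow_eq_zero_of_le (by omega) hz1)]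
                ring)
              rw [map_add, Q_add, hz'.2.2.2.1, hz'.2.2.2.2, if_neg (by simp), if_neg (by simp),
                B_Npow_top h2 hg (by rwa [show k + k + 1 = 2 * k + 1 by ring]), hz'.2.2.1,
                if_pos (by ring), zero_add, zero_add] at h1
              exact one_ne_zero h1
            · have h1 := ex z hz (by rw [hz'.2.2.2.1, if_neg (by omega)])
              rw [hz'.2.2.2.1, if_pos ⟨rfl, rfl⟩] at h1
              exact one_ne_zero h1
          refine ⟨_, hD, hNF.cons (by simp [Piece.size]) ?_ ?_ ?_ ?_ ?_⟩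
          · intro m' h; exact Piece.noConfusion h
          · intro m' hm' s h
            simp only [Piece.C.injEq] at h
            have h1 := hlen _ hm'
            simp only [Piece.len] at h1
            have h3 := (hNF.wodd m' hm').1
            obtain ⟨r, rfl⟩ := h3
            omega
          · intro k' hk'
            simp only [Piece.C.injEq, and_true] at hk'
            subst hk'
            refine ⟨fun s => ?_, fun s => ?_, exC1 true⟩
            · rw [Nat.add_sub_cancel]; exact exC s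
            · rw [show 2 * (k + 1) - 1 = 2 * k + 1 by omega]; exact exW s
          · intro k' hk'
            refine ⟨fun s h => ?_, fun s h => Piece.noConfusion h⟩
            simp only [Piece.C.injEq] at h
            have := hlen _ hk'
            simp only [Piece.len] at this
            omega
          · intro k' s h
            simp only [Piece.C.injEq] at h
            rw [← h.1]
            exact hcnt _ x L hx hp hL
        · push Not at hB2
          obtain ⟨v, hv, hv1, hv2⟩ := hB2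
          obtain ⟨x, hx, hp⟩ := caseB2a (α := α) h2 hg hU hi hv hv1 hv2
          obtain ⟨L, hL, hNF, hlen, hD⟩ := split _ x 0 hx (Submodule.zero_mem _) hp (by simp [Piece.size])
          refine ⟨_, hD, hNF.cons (by simp [Piece.size]) ?_ ?_ ?_ ?_ ?_⟩
          · intro m' h; exact Piece.noConfusion h
          · intro m' hm' s h
            simp only [Piece.C.injEq] at h
            have h1 := hlen _ hm'
            simp only [Piece.len] at h1
            have h3 := (hNF.wodd m' hm').1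
            obtain ⟨r, rfl⟩ := h3
            omega
          · intro k' hk'
            simp at hk'
          · intro k' hk'
            refine ⟨fun s h => ?_, fun s h => Piece.noConfusion h⟩
            simp only [Piece.C.injEq] at h
            have := hlen _ hk'
            simp only [Piece.len] at this
            omega
          · intro k' s h
            simp only [Piece.C.injEq] at h
            rw [← h.1]
            exact hcnt _ x L hx hp hL

end Cfsg.Agent.H170.Uni
end

-- part: H170/Unique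
section
/-!
# A unipotent isometry in characteristic two is determined by its list of pieces

* `Dec.perm` : the list may be permuted;
* `Dec.nd`, `Dec.finrank` : nondegeneracy and dimension;
* `Dec.iso` : equal lists give an equivariant isometry; lists which are equal after forgetting the signs of `W 1` and
  `C 1` give an equivariant isometry of the polar forms.
-/

set_option autoImplicit false

namespace Cfsg.Agent.H170.Uni

open LinearMap Module QuadraticMap

variable {F : Type*} [Field F] {V : Type*} [AddCommGroup V] [Module F V]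
variable {V' : Type*} [AddCommGroup V'] [Module F V']
variable {Q : QuadraticForm F V} {g : V ≃ₗ[F] V} {α : F}
variable {Q' : QuadraticForm F V'} {g' : V' ≃ₗ[F] V'}

theorem Dec.perm {L L' : List Piece} (h : L.Perm L') : ∀ {U : Submodule F V}, Dec Q g α L U → Dec Q g α L' U := by
  induction h with
  | nil => exact fun h => h
  | cons p _ ih =>
    intro U h
    cases h with
    | cons _ _ x y U' hp ho h' => exact Dec.cons _ _ x y U' hp ho (ih h')
  | swap p q L =>
    intro U h
    cases h with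
    | cons _ _ x y U' hp ho h' =>
      cases h' with
      | cons _ _ x' y' U'' hp' ho' h'' =>
        rw [← sup_assoc, sup_comm (Cyc g x y), sup_assoc]
        refine Dec.cons _ _ x' y' _ hp' ?_ (Dec.cons _ _ x y U'' hp ?_ h'')
        · intro a ha b hb
          obtain ⟨c, hc, d, hd, rfl⟩ := Submodule.mem_sup.1 hb
          rw [map_add, ho' a ha d hd, B_comm, ho c hc a (Submodule.mem_sup_left ha), add_zero]
        · intro a ha b hb
          exact ho a ha b (Submodule.mem_sup_right hb)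
  | trans _ _ ih1 ih2 => exact fun h => ih2 (ih1 h)

theorem nd_sup {P U : Submodule F V} (hP : Nd Q P) (hU : Nd Q U) (ho : ∀ a ∈ P, ∀ b ∈ U, B Q a b = 0) :
    Nd Q (P ⊔ U) ∧ Disjoint P U := by
  refine ⟨?_, ?_⟩
  · intro u hu h
    obtain ⟨a, ha, b, hb, rfl⟩ := Submodule.mem_sup.1 hu
    have h1 : a = 0 := by
      apply hP a ha
      intro v hv
      have := h v (Submodule.mem_sup_left hv)
      rwa [map_add, LinearMap.add_apply, B_comm Q b v, ho v hv b hb, add_zero] at this
    have h2 : b = 0 := by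
      apply hU b hb
      intro v hv
      have := h v (Submodule.mem_sup_right hv)
      rwa [map_add, LinearMap.add_apply, ho a ha v hv, zero_add] at this
    rw [h1, h2, add_zero]
  · rw [Submodule.disjoint_def]
    intro x hx hx'
    apply hP x hx
    intro v hv
    rw [B_comm]
    exact ho v hv x hx'

/-- the sum of the sizes -/
def tot (L : List Piece) : ℕ := (L.map Piece.size).sum

theorem Dec.nd_finrank [FiniteDimensional F V] (h2 : (2 : F) = 0) (hg : ∀ v, Q (g v) = Q v) {L : List Piece}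
    {U : Submodule F V} (h : Dec Q g α L U) : Nd Q U ∧ finrank F U = 2 * tot L := by
  induction h with
  | nil =>
    refine ⟨fun u hu _ => (Submodule.mem_bot F).1 hu, ?_⟩
    rw [finrank_bot]; rfl
  | cons p L x y U hp ho h ih =>
    have hP := hp.nd_finrank h2 hg
    have h3 := nd_sup hP.1 ih.1 ho
    refine ⟨h3.1, ?_⟩
    have h4 := Submodule.finrank_sup_add_finrank_inf_eq (Cyc g x y) U
    rw [h3.2.eq_bot, finrank_bot, add_zero, hP.2, ih.2] at h4
    rw [h4, tot, tot, List.map_cons, List.sum_cons]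
    ring

/-- forget the signs of the pieces `W 1` and `C 1` -/
def Piece.forget : Piece → Piece
  | .W m s => .W m (if m = 1 then false else s)
  | .C k s => .C k (if k = 1 then false else s)

theorem IsP.gramB (h2 : (2 : F) = 0) (hg : ∀ v, Q (g v) = Q v) (hg' : ∀ v, Q' (g' v) = Q' v) {p p' : Piece}
    (hpp : p.forget = p'.forget) {x y : V} {x' y' : V'} (h : IsP Q g α p x y)
    (h' : IsP Q' g' α p' x' y') (i j : ℕ × Bool) :
    B Q ((N g ^ i.1) (cond i.2 x y)) ((N g ^ j.1) (cond j.2 x y)) =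
      B Q' ((N g' ^ i.1) (cond i.2 x' y')) ((N g' ^ j.1) (cond j.2 x' y')) := by
  have hq : (∀ j, Q ((N g ^ (j + 1)) x) = Q' ((N g' ^ (j + 1)) x')) ∧
      (∀ j, Q ((N g ^ (j + 1)) y) = Q' ((N g' ^ (j + 1)) y')) ∧
      (∀ a, B Q ((N g ^ a) x) y = B Q' ((N g' ^ a) x') y') ∧ ∃ M, (N g ^ M) x = 0 ∧ (N g' ^ M) x' = 0 := by
    cases p with
    | W m s =>
      cases p' with
      | C k' s' => exact absurd hpp (by simp [Piece.forget])
      | W m' s' =>
        simp only [Piece.forget, Piece.W.injEq] at hpp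
        obtain ⟨rfl, hs⟩ := hpp
        refine ⟨fun j => ?_, fun j => ?_, fun a => ?_, m, h.1, h'.1⟩
        · rw [h.2.2.2.1, h'.2.2.2.1]
          by_cases hm : m = 1
          · rw [if_neg (by omega), if_neg (by omega)]
          · rw [if_neg hm, if_neg hm] at hs
            rw [hs]
        · rw [h.2.2.2.2, h'.2.2.2.2]
          by_cases hm : m = 1
          · rw [if_neg (by omega), if_neg (by omega)]
          · rw [if_neg hm, if_neg hm] at hs
            rw [hs]
        · rw [h.2.2.1, h'.2.2.1]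
    | C k s =>
      cases p' with
      | W m' s' => exact absurd hpp (by simp [Piece.forget])
      | C k' s' =>
        simp only [Piece.forget, Piece.C.injEq] at hpp
        obtain ⟨rfl, hs⟩ := hpp
        refine ⟨fun j => ?_, fun j => ?_, fun a => ?_, 2 * k, h.2.1, h'.2.1⟩
        · rw [h.2.2, h'.2.2]
          by_cases hk : k = 1
          · congr 1
            rw [if_neg (by omega), if_neg (by omega)]
          · rw [if_neg hk, if_neg hk] at hs
            rw [hs]
        · rw [h.1, h'.1, map_zero, map_zero, map_zero, map_zero]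
        · rw [h.1, h'.1, map_zero, map_zero]
  obtain ⟨hq1, hq2, hq3, M, hM, hM'⟩ := hq
  obtain ⟨i, bi⟩ := i
  obtain ⟨j, bj⟩ := j
  have hc := cross_gram h2 hg hg' x y x' y' hM hM' hq3
  cases bi <;> cases bj
  · exact self_gram h2 hg hg' y y' hq2 i j
  · change B Q ((N g ^ i) y) ((N g ^ j) x) = B Q' ((N g' ^ i) y') ((N g' ^ j) x')
    rw [B_comm Q, B_comm Q']
    exact hc j i
  · exact hc i j
  · exact self_gram h2 hg hg' x x' hq1 i j

/-- an equivariant isometry of the polar forms between subspaces, which is an isometry of the forms if `P` holds -/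
def Iso (Q : QuadraticForm F V) (g : V ≃ₗ[F] V) (Q' : QuadraticForm F V') (g' : V' ≃ₗ[F] V') (P : Prop)
    (U : Submodule F V) (U' : Submodule F V') : Prop :=
  ∃ T : U ≃ₗ[F] U', (∀ u v, B Q' (T u : V') (T v : V') = B Q (u : V) (v : V)) ∧
    (∀ u v : U, (v : V) = g u → (T v : V') = g' (T u)) ∧ (P → ∀ v, Q' (T v : V') = Q (v : V))

theorem Iso.glue {P : Prop} {U₁ U₂ : Submodule F V} {U₁' U₂' : Submodule F V'} (h1 : Iso Q g Q' g' P U₁ U₁')
    (h2 : Iso Q g Q' g' P U₂ U₂') (st1 : St g U₁) (st2 : St g U₂)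
    (ho : ∀ a ∈ U₁, ∀ b ∈ U₂, B Q a b = 0) (ho' : ∀ a ∈ U₁', ∀ b ∈ U₂', B Q' a b = 0) (nd1 : Nd Q U₁) (nd2 : Nd Q U₂)
    (nd1' : Nd Q' U₁') (nd2' : Nd Q' U₂') : Iso Q g Q' g' P (U₁ ⊔ U₂) (U₁' ⊔ U₂') := by
  obtain ⟨T₁, a1, b1, c1⟩ := h1
  obtain ⟨T₂, a2, b2, c2⟩ := h2
  obtain ⟨Y, hY⟩ : ∃ Y : U₁ ⊕ U₂ → V, Y = Sum.elim Subtype.val Subtype.val := ⟨_, rfl⟩
  obtain ⟨Y', hY'⟩ : ∃ Y' : U₁ ⊕ U₂ → V', Y' = Sum.elim (fun u => (T₁ u : V')) (fun u => (T₂ u : V')) := ⟨_, rfl⟩
  have hs : Submodule.span F (Set.range Y) = U₁ ⊔ U₂ := by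
    rw [hY, Set.Sum.elim_range, Submodule.span_union, Subtype.range_coe, Subtype.range_coe, Submodule.span_eq,
      Submodule.span_eq]
  have hs' : Submodule.span F (Set.range Y') = U₁' ⊔ U₂' := by
    have e1 : Set.range (fun u => (T₁ u : V')) = (U₁' : Set V') := by
      ext v
      constructor
      · rintro ⟨u, rfl⟩; exact (T₁ u).2
      · intro hv; exact ⟨T₁.symm ⟨v, hv⟩, by simp⟩
    have e2 : Set.range (fun u => (T₂ u : V')) = (U₂' : Set V') := by
      ext v
      constructor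
      · rintro ⟨u, rfl⟩; exact (T₂ u).2
      · intro hv; exact ⟨T₂.symm ⟨v, hv⟩, by simp⟩
    rw [hY', Set.Sum.elim_range, Submodule.span_union, e1, e2, Submodule.span_eq, Submodule.span_eq]
  obtain ⟨S, hT1, hT2, hT3⟩ := gram_iso' Q Q' Y Y' hs hs' (by
      intro i j
      subst hY hY'
      rcases i with i | i <;> rcases j with j | j
      · exact (a1 i j).symm
      · change B Q (i : V) (j : V) = B Q' (T₁ i : V') (T₂ j : V')
        rw [ho _ i.2 _ j.2, ho' _ (T₁ i).2 _ (T₂ j).2]
      · change B Q (i : V) (j : V) = B Q' (T₂ i : V') (T₁ j : V')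
        rw [B_comm, ho _ j.2 _ i.2, B_comm, ho' _ (T₁ j).2 _ (T₂ i).2]
      · exact (a2 i j).symm)
    (nd_sup nd1 nd2 ho).1 (nd_sup nd1' nd2' ho').1
  have hS1 : ∀ (u : V) (hu : u ∈ U₁), (S ⟨u, Submodule.mem_sup_left hu⟩ : V') = T₁ ⟨u, hu⟩ := by
    intro u hu
    subst hY hY'
    exact hT1 (Sum.inl ⟨u, hu⟩) _
  have hS2 : ∀ (u : V) (hu : u ∈ U₂), (S ⟨u, Submodule.mem_sup_right hu⟩ : V') = T₂ ⟨u, hu⟩ := by
    intro u hu
    subst hY hY'
    exact hT1 (Sum.inr ⟨u, hu⟩) _
  refine ⟨S, hT2, fun u v huv => ?_, fun hP => hT3 ?_⟩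
  · obtain ⟨u, hu⟩ := u
    obtain ⟨a, ha, b, hb, rfl⟩ := Submodule.mem_sup.1 hu
    have e1 : (⟨a + b, hu⟩ : ↥(U₁ ⊔ U₂)) = ⟨a, Submodule.mem_sup_left ha⟩ + ⟨b, Submodule.mem_sup_right hb⟩ := rfl
    have e2 : v = ⟨g a, Submodule.mem_sup_left (st1 a ha)⟩ + ⟨g b, Submodule.mem_sup_right (st2 b hb)⟩ := by
      apply Subtype.ext
      rw [huv]
      exact map_add g a b
    rw [e1, e2, map_add, map_add, Submodule.coe_add, Submodule.coe_add, map_add, hS1 _ (st1 a ha), hS2 _ (st2 b hb),
      hS1 a ha, hS2 b hb, b1 ⟨a, ha⟩ ⟨g a, st1 a ha⟩ rfl, b2 ⟨b, hb⟩ ⟨g b, st2 b hb⟩ rfl]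
  · intro i
    subst hY hY'
    rcases i with i | i
    · exact (c1 hP i).symm
    · exact (c2 hP i).symm

theorem Iso.of_isP [FiniteDimensional F V] (h2 : (2 : F) = 0) (hg : ∀ v, Q (g v) = Q v) (hg' : ∀ v, Q' (g' v) = Q' v)
    {p p' : Piece} (hpp : p.forget = p'.forget) {x y : V} {x' y' : V'} (h : IsP Q g α p x y)
    (h' : IsP Q' g' α p' x' y') : Iso Q g Q' g' (p = p') (Cyc g x y) (Cyc g' x' y') := by
  obtain ⟨T, hT1, hT2, hT3⟩ := gram_iso' Q Q' (fun i : ℕ × Bool => (N g ^ i.1) (cond i.2 x y))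
    (fun i : ℕ × Bool => (N g' ^ i.1) (cond i.2 x' y')) (U := Cyc g x y) (U' := Cyc g' x' y') rfl rfl
    (h.gramB h2 hg hg' hpp h') (h.nd_finrank h2 hg).1 (h'.nd_finrank h2 hg').1
  refine ⟨T, hT2, fun u v huv => ?_, fun hP => hT3 ?_⟩
  · obtain ⟨u, hu⟩ := u
    obtain ⟨v, hv⟩ := v
    change v = g u at huv
    subst huv
    -- the statement is linear in `u`
    have key : ∀ u (hu : u ∈ Cyc g x y), (T ⟨N g u, (Cyc_st g x y).N_mem hu⟩ : V') = N g' (T ⟨u, hu⟩ : V') := by
      intro u hu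
      have hu' := hu
      rw [Cyc] at hu'
      induction hu' using Submodule.span_induction with
      | mem u hu' =>
        obtain ⟨⟨j, b⟩, rfl⟩ := hu'
        have e1 := hT1 (j, b) hu
        have e2 := hT1 (j + 1, b) (Submodule.subset_span ⟨(j + 1, b), rfl⟩)
        have e3 : (⟨N g ((N g ^ j) (cond b x y)), (Cyc_st g x y).N_mem hu⟩ : Cyc g x y) =
            ⟨(N g ^ (j + 1)) (cond b x y), Submodule.subset_span ⟨(j + 1, b), rfl⟩⟩ := by
          apply Subtype.ext
          exact (pow_succ_apply _ _ _).symm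
        have e4 : (T ⟨N g ((N g ^ j) (cond b x y)), (Cyc_st g x y).N_mem hu⟩ : V') =
            N g' ((N g' ^ j) (cond b x' y')) := by
          rw [e3, ← pow_succ_apply]
          exact e2
        rw [← e1] at e4
        exact e4
      | zero =>
        have e1 : (⟨N g 0, (Cyc_st g x y).N_mem hu⟩ : Cyc g x y) = 0 := by
          apply Subtype.ext; exact map_zero _
        have e2 : (⟨0, hu⟩ : Cyc g x y) = 0 := rfl
        rw [e1, e2, map_zero]
        simp
      | add a b ha hb iha ihb =>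
        have e1 : (⟨N g (a + b), (Cyc_st g x y).N_mem hu⟩ : Cyc g x y) =
            ⟨N g a, (Cyc_st g x y).N_mem ha⟩ + ⟨N g b, (Cyc_st g x y).N_mem hb⟩ := by
          apply Subtype.ext; exact map_add _ _ _
        have e2 : (⟨a + b, hu⟩ : Cyc g x y) = ⟨a, ha⟩ + ⟨b, hb⟩ := rfl
        rw [e1, e2, map_add, map_add, Submodule.coe_add, Submodule.coe_add, map_add, iha ha, ihb hb]
      | smul c a ha iha =>
        have e1 : (⟨N g (c • a), (Cyc_st g x y).N_mem hu⟩ : Cyc g x y) = c • ⟨N g a, (Cyc_st g x y).N_mem ha⟩ := by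
          apply Subtype.ext; exact map_smul _ _ _
        have e2 : (⟨c • a, hu⟩ : Cyc g x y) = c • ⟨a, ha⟩ := rfl
        rw [e1, e2, map_smul, map_smul, Submodule.coe_smul, Submodule.coe_smul, map_smul, iha ha]
    have e1 : (⟨g u, hv⟩ : Cyc g x y) = ⟨u, hu⟩ + ⟨N g u, (Cyc_st g x y).N_mem hu⟩ := by
      apply Subtype.ext; exact g_eq g u
    rw [e1, map_add, Submodule.coe_add, key u hu, ← g_eq]
  · subst hP
    exact (h.gram h2 hg hg' h').2

/-- **The list of pieces determines the isometry.** -/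
theorem Dec.iso [FiniteDimensional F V] [FiniteDimensional F V'] (h2 : (2 : F) = 0) (hg : ∀ v, Q (g v) = Q v)
    (hg' : ∀ v, Q' (g' v) = Q' v) {L L' : List Piece} {U : Submodule F V} {U' : Submodule F V'}
    (hLL : L.map Piece.forget = L'.map Piece.forget) (h : Dec Q g α L U) (h' : Dec Q' g' α L' U') :
    Iso Q g Q' g' (L = L') U U' := by
  induction h generalizing L' U' with
  | nil =>
    cases h' with
    | nil =>
      refine ⟨LinearEquiv.ofSubsingleton _ _, fun u v => ?_, fun u v _ => ?_, fun _ v => ?_⟩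
      · rw [Subsingleton.elim u 0, map_zero]; simp
      · rw [Subsingleton.elim u 0, Subsingleton.elim v 0, map_zero]; simp
      · rw [Subsingleton.elim v 0, map_zero]; simp
    | cons _ _ _ _ _ _ _ _ => simp at hLL
  | cons p L x y U hp ho h ih =>
    cases h' with
    | nil => simp at hLL
    | cons p' L' x' y' U' hp' ho' h' =>
      simp only [List.map_cons, List.cons.injEq] at hLL
      have i1 := Iso.of_isP h2 hg hg' hLL.1 hp hp'
      have i2 := ih hLL.2 h'
      obtain ⟨T1, a1, b1, c1⟩ := i1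
      obtain ⟨T2, a2, b2, c2⟩ := i2
      refine Iso.glue ⟨T1, a1, b1, fun hP => c1 (List.cons.inj hP).1⟩ ⟨T2, a2, b2, fun hP => c2 (List.cons.inj hP).2⟩
        (Cyc_st g x y) h.st ho ho' (hp.nd_finrank h2 hg).1 (h.nd_finrank h2 hg).1 (hp'.nd_finrank h2 hg').1
        (h'.nd_finrank h2 hg').1

end Cfsg.Agent.H170.Uni
end
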