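import Mathlib
import Cfsg.Prelude.Def_Classical
import Cfsg.Agent.H173.NumMain
import Cfsg.Agent.H170.Unique
import Cfsg.Agent.ClassicalGeometry.WittQuad
import Cfsg.Agent.H171.Typ
import Cfsg.Agent.H193.InvForm
import Cfsg.Agent.LieClassical.QuadForms
set_option linter.all false

-- part: H170/Bridge
section
/-!
# Isometry groups of matrices and linear maps; counting conjugacy classes by invariants

* `linOf A` : the linear map of `A : GL ι F`; `exists_of_lin`;
* `isConj_of_equiv` : equivariantly isometric elements of an isometry group are conjugate;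
* `card_conj_le` : `k(O(Q)) ≤` number of occurring data.
-/

set_option autoImplicit false

namespace Cfsg.Agent.H170.Bridge

open Matrix

variable {ι : Type} [Fintype ι] [DecidableEq ι] {F : Type*} [Field F]

/-- the linear map of an invertible matrix -/
def linOf (A : GL ι F) : (ι → F) ≃ₗ[F] (ι → F) where
  toFun v := A.1 *ᵥ v
  invFun v := A⁻¹.1 *ᵥ v
  map_add' u v := mulVec_add _ _ _
  map_smul' c v := mulVec_smul _ _ _
  left_inv v := by
    show A⁻¹.1 *ᵥ (A.1 *ᵥ v) = v
    rw [mulVec_mulVec, ← Units.val_mul, inv_mul_cancel, Units.val_one, one_mulVec]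
  right_inv v := by
    show A.1 *ᵥ (A⁻¹.1 *ᵥ v) = v
    rw [mulVec_mulVec, ← Units.val_mul, mul_inv_cancel, Units.val_one, one_mulVec]

theorem linOf_apply (A : GL ι F) (v : ι → F) : linOf A v = A.1 *ᵥ v := rfl

theorem linOf_mul (A B : GL ι F) (v : ι → F) : linOf (A * B) v = linOf A (linOf B v) := by
  rw [linOf_apply, linOf_apply, linOf_apply, mulVec_mulVec, Units.val_mul]

theorem linOf_injective {A B : GL ι F} (h : ∀ v, linOf A v = linOf B v) : A = B := by
  apply Units.ext
  apply Matrix.mulVec_injective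
  funext v
  exact h v

theorem exists_of_lin (z : (ι → F) ≃ₗ[F] (ι → F)) : ∃ A : GL ι F, ∀ v, linOf A v = z v := by
  have h : ∀ (x y : (ι → F) ≃ₗ[F] (ι → F)), (∀ v, x (y v) = v) →
      LinearMap.toMatrix' x.toLinearMap * LinearMap.toMatrix' y.toLinearMap = 1 := by
    intro x y hxy
    rw [← LinearMap.toMatrix'_comp, show x.toLinearMap ∘ₗ y.toLinearMap = LinearMap.id from LinearMap.ext hxy,
      LinearMap.toMatrix'_id]
  refine ⟨⟨LinearMap.toMatrix' z.toLinearMap, LinearMap.toMatrix' z.symm.toLinearMap,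
    h z z.symm z.apply_symm_apply, h z.symm z z.symm_apply_apply⟩, fun v => ?_⟩
  rw [linOf_apply]
  exact LinearMap.toMatrix'_mulVec z.toLinearMap v

theorem mem_iff {Q : (ι → F) → F} {A : GL ι F} : A ∈ Cfsg.isometryGroup F Q ↔ ∀ v, Q (linOf A v) = Q v :=
  ⟨fun h v => h v v, fun h u _ => h u⟩

theorem isConj_of_equiv {Q : (ι → F) → F} (g g' : Cfsg.isometryGroup F Q) (z : (ι → F) ≃ₗ[F] (ι → F))
    (hz : ∀ v, z (linOf g.1 v) = linOf g'.1 (z v)) (hQ : ∀ v, Q (z v) = Q v) : IsConj g g' := by
  obtain ⟨A, hA⟩ := exists_of_lin z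
  have hA' : A ∈ Cfsg.isometryGroup F Q := mem_iff.2 fun v => by rw [hA, hQ]
  rw [isConj_iff]
  refine ⟨⟨A, hA'⟩, ?_⟩
  rw [mul_inv_eq_iff_eq_mul]
  apply Subtype.ext
  apply linOf_injective
  intro v
  rw [Subgroup.coe_mul, Subgroup.coe_mul, linOf_mul, linOf_mul]
  show linOf A (linOf g.1 v) = linOf g'.1 (linOf A v)
  rw [hA, hA, hz]

/-- **Counting classes by invariants.** -/
theorem card_conj_le {G X : Type*} [Group G] (S : Set X) [Finite S] (R : G → X → Prop)
    (h1 : ∀ g, ∃ D ∈ S, R g D) (h2 : ∀ g g' D, R g D → R g' D → IsConj g g') :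
    Nat.card (ConjClasses G) ≤ Nat.card {D : X // D ∈ S ∧ ∃ g, R g D} := by
  classical
  have : Finite {D : X // D ∈ S ∧ ∃ g, R g D} :=
    Finite.of_injective (fun D => (⟨D.1, D.2.1⟩ : S)) fun D D' h => Subtype.ext (congrArg (fun x : S => x.1) h)
  have hout : ∀ c : ConjClasses G, ConjClasses.mk c.out = c := fun c => Quotient.out_eq c
  refine Nat.card_le_card_of_injective
    (fun c : ConjClasses G => (⟨(h1 c.out).choose, (h1 c.out).choose_spec.1, c.out, (h1 c.out).choose_spec.2⟩ :
      {D : X // D ∈ S ∧ ∃ g, R g D})) ?_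
  intro c c' h
  have h3 : (h1 c.out).choose = (h1 c'.out).choose := congrArg Subtype.val h
  have h4 := (h1 c'.out).choose_spec.2
  rw [← h3] at h4
  have h5 := ConjClasses.mk_eq_mk_iff_isConj.2 (h2 _ _ _ (h1 c.out).choose_spec.2 h4)
  rw [hout, hout] at h5
  exact h5

end Cfsg.Agent.H170.Bridge
end

-- part: H170/ToDat
section
/-!
# From lists of pieces to combinatorial data

* `datOf f L` : the data of the list `L` of pieces and the family `f` of polynomials; `datOf_ok` : it is a normal form;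
* `perm_of_dat` : the data determine `L` up to order; `perm_forget_of_dat` : up to order and signs of `W 1`, `C 1`.
-/

set_option autoImplicit false

namespace Cfsg.Agent.H170.Uni

open Polynomial

variable {F : Type*} [Field F]

/-- number of pieces `W m` -/
def aOf (L : List Piece) (m : ℕ) : ℕ := L.count (Piece.W m true) + L.count (Piece.W m false)

/-- number of pieces `C k` -/
def bOf (L : List Piece) (k : ℕ) : ℕ := L.count (Piece.C k true) + L.count (Piece.C k false)

theorem ab_cons (p : Piece) (L : List Piece) (j : ℕ) :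
    aOf (p :: L) j + bOf (p :: L) j = (aOf L j + bOf L j) + if p.size = j then 1 else 0 := by
  rcases p with ⟨m, s⟩ | ⟨m, s⟩ <;> rcases s with _ | _ <;> by_cases h : m = j <;>
    simp [aOf, bOf, Piece.size, h] <;> omega

theorem tot_cons (p : Piece) (L : List Piece) : tot (p :: L) = p.size + tot L := by simp [tot]

theorem tot_eq (L : List Piece) (n : ℕ) (h : tot L ≤ n) :
    ∑ j ∈ Finset.range (n + 1), j * (aOf L j + bOf L j) = tot L := by
  induction L with
  | nil => simp [aOf, bOf, tot]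
  | cons p L ih =>
    rw [tot_cons] at h ⊢
    have h1 := ih (by omega)
    have h2 : ∀ j ∈ Finset.range (n + 1), j * (aOf (p :: L) j + bOf (p :: L) j) =
        j * (aOf L j + bOf L j) + if p.size = j then j else 0 := by
      intro j _
      rw [ab_cons, mul_add]
      split_ifs <;> simp
    rw [Finset.sum_congr rfl h2, Finset.sum_add_distrib, h1, Finset.sum_ite_eq, if_pos, add_comm]
    rw [Finset.mem_range]
    omega

theorem size_le_tot {p : Piece} {L : List Piece} (h : p ∈ L) : p.size ≤ tot L := by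
  induction L with
  | nil => cases h
  | cons q L ih =>
    rw [tot_cons]
    rcases List.mem_cons.1 h with rfl | h
    · omega
    · have := ih h
      omega

theorem aOf_pos {L : List Piece} {m : ℕ} (h : 0 < aOf L m) : ∃ s, Piece.W m s ∈ L := by
  by_contra hc
  push Not at hc
  have h1 := List.count_eq_zero.2 (hc true)
  have h2 := List.count_eq_zero.2 (hc false)
  rw [aOf, h1, h2] at h
  exact lt_irrefl _ h

theorem bOf_pos {L : List Piece} {m : ℕ} (h : 0 < bOf L m) : ∃ s, Piece.C m s ∈ L := by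
  by_contra hc
  push Not at hc
  have h1 := List.count_eq_zero.2 (hc true)
  have h2 := List.count_eq_zero.2 (hc false)
  rw [bOf, h1, h2] at h
  exact lt_irrefl _ h

theorem aOf_eq_zero {L : List Piece} {m : ℕ} (h : ∀ s, Piece.W m s ∉ L) : aOf L m = 0 := by
  by_contra hc
  obtain ⟨s, hs⟩ := aOf_pos (Nat.pos_of_ne_zero hc)
  exact h s hs

theorem bOf_eq_zero {L : List Piece} {m : ℕ} (h : ∀ s, Piece.C m s ∉ L) : bOf L m = 0 := by
  by_contra hc
  obtain ⟨s, hs⟩ := bOf_pos (Nat.pos_of_ne_zero hc)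
  exact h s hs

theorem aOf_pos' {L : List Piece} {m : ℕ} {s : Bool} (h : Piece.W m s ∈ L) : 0 < aOf L m := by
  have := List.count_pos_iff.2 h
  cases s <;> simp only [aOf] <;> omega

theorem bOf_pos' {L : List Piece} {m : ℕ} {s : Bool} (h : Piece.C m s ∈ L) : 0 < bOf L m := by
  have := List.count_pos_iff.2 h
  cases s <;> simp only [bOf] <;> omega

/-- the data of a list of pieces and a family of polynomials -/
def datOf (f : ℕ → F[X]) (L : List Piece) : Dat F where
  f := f
  a := aOf L
  b := bOf L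
  s := fun m => decide (Piece.W m true ∈ L)
  t := fun k => decide (Piece.C k true ∈ L)

theorem datOf_ok {f : ℕ → F[X]} {L : List Piece} {n : ℕ} (hL : NF L) (h1 : ∀ j, (f j).Monic)
    (h2 : ∀ j, (f j).reverse = f j) (h3 : ∀ j, (f j).eval 1 ≠ 0) (h4 : ∀ j, Even (f j).natDegree) (h5 : f 0 = 1)
    (h6 : ∀ j, 2 * n < j → f j = 1)
    (h7 : ∑ j ∈ Finset.range (2 * n + 1), j * (f j).natDegree + 2 * tot L = 2 * n) : (datOf f L).Ok n := by
  have hf : ∀ j, n < j → f j = 1 := by
    intro j hj
    by_cases hj2 : 2 * n < j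
    · exact h6 j hj2
    · have h8 : j * (f j).natDegree ≤ ∑ j ∈ Finset.range (2 * n + 1), j * (f j).natDegree :=
        Finset.single_le_sum (f := fun j => j * (f j).natDegree) (fun _ _ => Nat.zero_le _)
          (Finset.mem_range.2 (by omega))
      obtain ⟨r, hr⟩ := h4 j
      have hr0 : r = 0 := by
        by_contra hr0
        have h9 : j * 2 ≤ j * (f j).natDegree := Nat.mul_le_mul_left _ (by omega)
        omega
      exact (h1 j).natDegree_eq_zero.1 (by omega)
  have htot : tot L ≤ n := by omega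
  refine ⟨h1, h2, h3, h4, ⟨h5, ?_, ?_⟩, fun j hj => ⟨hf j hj, ?_, ?_⟩, ?_, ?_, ?_, ?_⟩
  · exact aOf_eq_zero fun s hs => absurd (hL.pos _ hs) (lt_irrefl _)
  · exact bOf_eq_zero fun s hs => absurd (hL.pos _ hs) (lt_irrefl _)
  · exact aOf_eq_zero fun s hs => by
      have := size_le_tot hs
      simp only [Piece.size] at this
      omega
  · exact bOf_eq_zero fun s hs => by
      have := size_le_tot hs
      simp only [Piece.size] at this
      omega
  · exact hL.cnt
  · intro j hj
    have hj' : Piece.W j true ∈ L := of_decide_eq_true hj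
    exact ⟨(hL.wodd j hj').1, aOf_pos' hj', bOf_eq_zero (hL.wodd j hj').2⟩
  · intro k hk
    have hk' : Piece.C k true ∈ L := of_decide_eq_true hk
    exact ⟨bOf_pos' hk', bOf_eq_zero (hL.cmin k hk').1, aOf_eq_zero (hL.cmin k hk').2⟩
  · have h8 : ∑ j ∈ Finset.range (2 * n + 1), j * (f j).natDegree =
        ∑ j ∈ Finset.range (n + 1), j * (f j).natDegree := by
      symm
      apply Finset.sum_subset
      · intro j hj
        rw [Finset.mem_range] at hj ⊢
        omega
      · intro j _ hj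
        rw [Finset.mem_range] at hj
        rw [hf j (by omega), natDegree_one, mul_zero]
    have h9 : ∑ j ∈ Finset.range (n + 1), j * (f j).natDegree =
        2 * ∑ j ∈ Finset.range (n + 1), j * ((f j).natDegree / 2) := by
      rw [Finset.mul_sum]
      refine Finset.sum_congr rfl fun j _ => ?_
      obtain ⟨r, hr⟩ := h4 j
      rw [hr, show (r + r) / 2 = r by omega]
      ring
    have h10 := tot_eq L n htot
    have h11 : ∑ j ∈ Finset.range (n + 1), (j * ((f j).natDegree / 2 + aOf L j) + j * bOf L j) =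
        ∑ j ∈ Finset.range (n + 1), j * ((f j).natDegree / 2) +
        ∑ j ∈ Finset.range (n + 1), j * (aOf L j + bOf L j) := by
      rw [← Finset.sum_add_distrib]
      exact Finset.sum_congr rfl fun j _ => by ring
    show ∑ j ∈ Finset.range (n + 1), (j * ((f j).natDegree / 2 + aOf L j) + j * bOf L j) = n
    rw [h11]
    omega

theorem NF.count_W {L : List Piece} (h : NF L) (m : ℕ) :
    L.count (Piece.W m true) = if decide (Piece.W m true ∈ L) = true then 1 else 0 := by
  have h1 := h.cntW m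
  by_cases h2 : Piece.W m true ∈ L
  · have := List.count_pos_iff.2 h2
    simp [h2]
    omega
  · simp [h2, List.count_eq_zero.2 h2]

theorem NF.count_C {L : List Piece} (h : NF L) (m : ℕ) :
    L.count (Piece.C m true) = if decide (Piece.C m true ∈ L) = true then 1 else 0 := by
  have h1 := h.cntC m
  by_cases h2 : Piece.C m true ∈ L
  · have := List.count_pos_iff.2 h2
    simp [h2]
    omega
  · simp [h2, List.count_eq_zero.2 h2]

/-- the data determine the list up to order -/
theorem perm_of_dat {L L' : List Piece} (h : NF L) (h' : NF L') (ha : aOf L = aOf L') (hb : bOf L = bOf L')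
    (hs : ∀ m, decide (Piece.W m true ∈ L) = decide (Piece.W m true ∈ L'))
    (ht : ∀ m, decide (Piece.C m true ∈ L) = decide (Piece.C m true ∈ L')) : L.Perm L' := by
  rw [List.perm_iff_count]
  have hW : ∀ m, L.count (Piece.W m true) = L'.count (Piece.W m true) := fun m => by
    rw [h.count_W, h'.count_W, hs]
  have hC : ∀ m, L.count (Piece.C m true) = L'.count (Piece.C m true) := fun m => by
    rw [h.count_C, h'.count_C, ht]
  rintro (⟨m, s⟩ | ⟨m, s⟩)
  · cases s
    · have h1 := congrFun ha m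
      have h2 := hW m
      simp only [aOf] at h1
      omega
    · exact hW m
  · cases s
    · have h1 := congrFun hb m
      have h2 := hC m
      simp only [bOf] at h1
      omega
    · exact hC m

theorem count_map_forget_W (L : List Piece) (m : ℕ) (s : Bool) :
    (L.map Piece.forget).count (Piece.W m s) =
      if m = 1 then (if s = true then 0 else aOf L 1) else L.count (Piece.W m s) := by
  induction L with
  | nil => simp [aOf]
  | cons p L ih =>
    rw [List.map_cons, List.count_cons, ih]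
    rcases p with ⟨k, r⟩ | ⟨k, r⟩
    · by_cases hk : k = 1 <;> by_cases hm : m = 1 <;> cases s <;> cases r <;>
        simp [Piece.forget, hk, hm, aOf, List.count_cons] <;> omega
    · by_cases hk : k = 1 <;> by_cases hm : m = 1 <;> cases s <;> cases r <;>
        simp [Piece.forget, hk, hm, aOf]

theorem count_map_forget_C (L : List Piece) (m : ℕ) (s : Bool) :
    (L.map Piece.forget).count (Piece.C m s) =
      if m = 1 then (if s = true then 0 else bOf L 1) else L.count (Piece.C m s) := by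
  induction L with
  | nil => simp [bOf]
  | cons p L ih =>
    rw [List.map_cons, List.count_cons, ih]
    rcases p with ⟨k, r⟩ | ⟨k, r⟩
    · by_cases hk : k = 1 <;> by_cases hm : m = 1 <;> cases s <;> cases r <;>
        simp [Piece.forget, hk, hm, bOf]
    · by_cases hk : k = 1 <;> by_cases hm : m = 1 <;> cases s <;> cases r <;>
        simp [Piece.forget, hk, hm, bOf, List.count_cons] <;> omega

/-- the data without the signs of `W 1`, `C 1` determine the list up to order and these signs -/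
theorem perm_forget_of_dat {L L' : List Piece} (h : NF L) (h' : NF L') (ha : aOf L = aOf L') (hb : bOf L = bOf L')
    (hs : ∀ m, m ≠ 1 → decide (Piece.W m true ∈ L) = decide (Piece.W m true ∈ L'))
    (ht : ∀ m, m ≠ 1 → decide (Piece.C m true ∈ L) = decide (Piece.C m true ∈ L')) :
    (L.map Piece.forget).Perm (L'.map Piece.forget) := by
  rw [List.perm_iff_count]
  rintro (⟨m, s⟩ | ⟨m, s⟩)
  · rw [count_map_forget_W, count_map_forget_W]
    by_cases hm : m = 1
    · rw [if_pos hm, if_pos hm, ha]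
    · rw [if_neg hm, if_neg hm]
      have hW : L.count (Piece.W m true) = L'.count (Piece.W m true) := by
        rw [h.count_W, h'.count_W, hs m hm]
      cases s
      · have h1 := congrFun ha m
        simp only [aOf] at h1
        omega
      · exact hW
  · rw [count_map_forget_C, count_map_forget_C]
    by_cases hm : m = 1
    · rw [if_pos hm, if_pos hm, hb]
    · rw [if_neg hm, if_neg hm]
      have hC : L.count (Piece.C m true) = L'.count (Piece.C m true) := by
        rw [h.count_C, h'.count_C, ht m hm]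
      cases s
      · have h1 := congrFun hb m
        simp only [bOf] at h1
        omega
      · exact hC

/-- lifting a permutation of images -/
theorem exists_perm_map {α β : Type*} (f : α → β) {l : List β} {L : List α} (h : l.Perm (L.map f)) :
    ∃ L' : List α, L'.Perm L ∧ L'.map f = l := by
  induction l generalizing L with
  | nil =>
    have h1 : L.map f = [] := List.nil_perm.1 h
    exact ⟨L, List.Perm.refl _, h1⟩
  | cons b l ih =>
    have hb : b ∈ L.map f := h.subset List.mem_cons_self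
    obtain ⟨a, ha, rfl⟩ := List.mem_map.1 hb
    obtain ⟨s, t, rfl⟩ := List.append_of_mem ha
    have h1 : (f a :: l).Perm (f a :: (s ++ t).map f) := by
      refine h.trans ?_
      rw [List.map_append, List.map_cons, List.map_append]
      exact List.perm_middle
    obtain ⟨L', hL', hL''⟩ := ih (List.Perm.cons_inv h1)
    refine ⟨a :: L', ?_, by rw [List.map_cons, hL'']⟩
    exact (List.Perm.cons a hL').trans List.perm_middle.symm

end Cfsg.Agent.H170.Uni
end

-- part: H170/TypeFlip
section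
/-!
# The Witt type of the pieces

`no_flip` : a nondegenerate quadratic space cannot be an orthogonal sum `P ⊥ R` and `P' ⊥ R'` with `R`, `R'` isometric
and `P`, `P'` pieces of the same shape and different signs.
-/

set_option autoImplicit false

namespace Cfsg.Agent.H170.Uni

open LinearMap Module QuadraticMap

variable {F : Type*} [Field F] {V : Type*} [AddCommGroup V] [Module F V]
variable {Q : QuadraticForm F V} {g : V ≃ₗ[F] V} {α : F}

/-- totally singular -/
def TS (Q : QuadraticForm F V) (T : Submodule F V) : Prop := ∀ v ∈ T, Q v = 0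

theorem TS.B_eq {T : Submodule F V} (h : TS Q T) {u v : V} (hu : u ∈ T) (hv : v ∈ T) : B Q u v = 0 := by
  have h1 := Q_add Q u v
  rw [h _ (T.add_mem hu hv), h _ hu, h _ hv] at h1
  simpa using h1.symm

theorem finrank_comp' [FiniteDimensional F V] (hV : Nd Q ⊤) {X P : Submodule F V} (hP : Nd Q P) (hX : X ≤ P) :
    finrank F X + finrank F (comp Q X P) = finrank F P := by
  have hbot : (B Q).orthogonal ⊤ = ⊥ := by
    rw [Submodule.eq_bot_iff]
    intro v hv
    rw [LinearMap.BilinForm.mem_orthogonal_iff] at hv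
    apply hV v trivial
    intro u _
    rw [B_comm]
    exact hv u trivial
  have h1 := LinearMap.BilinForm.finrank_add_finrank_orthogonal (B_isRefl Q) X
  have h2 := LinearMap.BilinForm.finrank_add_finrank_orthogonal (B_isRefl Q) P
  rw [hbot, inf_bot_eq, finrank_bot, add_zero] at h1 h2
  have hPX : (B Q).orthogonal P ≤ (B Q).orthogonal X := LinearMap.BilinForm.orthogonal_le hX
  have hc := (LinearMap.BilinForm.isCompl_orthogonal_iff_disjoint (B_isRefl Q) (W := P)).2 (disjoint_orth Q hP)
  have h3 : (B Q).orthogonal P ⊔ comp Q X P = (B Q).orthogonal X := by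
    rw [comp, inf_comm, ← sup_inf_assoc_of_le _ hPX, sup_comm, hc.sup_eq_top, top_inf_eq]
  have h4 : Disjoint ((B Q).orthogonal P) (comp Q X P) := (disjoint_orth Q hP).symm.mono_right (comp_le Q X P)
  have h5 := Submodule.finrank_sup_add_finrank_inf_eq ((B Q).orthogonal P) (comp Q X P)
  rw [h4.eq_bot, finrank_bot, add_zero, h3] at h5
  omega

/-- the Witt index argument -/
theorem ts_contra [FiniteDimensional F V] (hV : Nd Q ⊤) {P T W : Submodule F V} (hP : Nd Q P) (hTP : T ≤ P)
    (hWP : W ≤ P) (hT : TS Q T) {n : ℕ} (hn : finrank F P = 2 * n) (hTn : n ≤ finrank F T)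
    (hWn : finrank F W < n) (han : ∀ v ∈ P, (∀ w ∈ W, B Q w v = 0) → Q v = 0 → v ∈ W) : False := by
  have h1 := finrank_comp' hV hP hTP
  have hTc : T ≤ comp Q T P := fun t ht => (mem_comp Q).2 ⟨fun u hu => hT.B_eq hu ht, hTP ht⟩
  have hle := Submodule.finrank_mono hTc
  have hTeq : T = comp Q T P := Submodule.eq_of_le_of_finrank_le hTc (by omega)
  have h2 := finrank_comp' hV hP (sup_le hTP hWP)
  have h3 : comp Q (T ⊔ W) P ≤ T ⊓ W := by
    intro v hv
    rw [mem_comp] at hv
    have hvT : v ∈ T := by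
      rw [hTeq, mem_comp]
      exact ⟨fun p hp => hv.1 p (Submodule.mem_sup_left hp), hv.2⟩
    exact ⟨hvT, han v hv.2 (fun w hw => hv.1 w (Submodule.mem_sup_right hw)) (hT v hvT)⟩
  have h4 := Submodule.finrank_mono h3
  have h5 := Submodule.finrank_sup_add_finrank_inf_eq T W
  omega

/-- the filtration of a piece -/
def Fil (g : V ≃ₗ[F] V) (x y : V) (j : ℕ) : Submodule F V :=
  Submodule.span F (Set.range fun p : ℕ × Bool => (N g ^ (j + p.1)) (cond p.2 x y))

theorem Fil_zero (g : V ≃ₗ[F] V) (x y : V) : Fil g x y 0 = Cyc g x y := by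
  rw [Fil, Cyc]
  simp only [zero_add]

theorem mem_Fil_left (g : V ≃ₗ[F] V) (x y : V) {j i : ℕ} (h : j ≤ i) : (N g ^ i) x ∈ Fil g x y j := by
  obtain ⟨k, rfl⟩ := Nat.exists_eq_add_of_le h
  exact Submodule.subset_span ⟨(k, true), rfl⟩

theorem mem_Fil_right (g : V ≃ₗ[F] V) (x y : V) {j i : ℕ} (h : j ≤ i) : (N g ^ i) y ∈ Fil g x y j := by
  obtain ⟨k, rfl⟩ := Nat.exists_eq_add_of_le h
  exact Submodule.subset_span ⟨(k, false), rfl⟩

theorem Fil_le_Cyc (g : V ≃ₗ[F] V) (x y : V) (j : ℕ) : Fil g x y j ≤ Cyc g x y := by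
  rw [Fil, Submodule.span_le]
  rintro _ ⟨⟨i, b⟩, rfl⟩
  cases b
  · exact Npow_mem_Cyc_right g x y _
  · exact Npow_mem_Cyc_left g x y _

theorem Fil_step {g : V ≃ₗ[F] V} {x y v : V} {j : ℕ} (h : v ∈ Fil g x y j) :
    ∃ a b : F, ∃ w ∈ Fil g x y (j + 1), v = a • (N g ^ j) x + b • (N g ^ j) y + w := by
  rw [Fil] at h
  induction h using Submodule.span_induction with
  | mem v hv =>
    obtain ⟨⟨i, c⟩, rfl⟩ := hv
    rcases Nat.eq_zero_or_pos i with rfl | hi
    · cases c
      · exact ⟨0, 1, 0, Submodule.zero_mem _, by simp⟩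
      · exact ⟨1, 0, 0, Submodule.zero_mem _, by simp⟩
    · refine ⟨0, 0, _, ?_, by rw [zero_smul, zero_smul, zero_add, zero_add]⟩
      cases c
      · exact mem_Fil_right g x y (by simp; omega)
      · exact mem_Fil_left g x y (by simp; omega)
  | zero => exact ⟨0, 0, 0, Submodule.zero_mem _, by simp⟩
  | add u v _ _ hu hv =>
    obtain ⟨a, b, w, hw, rfl⟩ := hu
    obtain ⟨a', b', w', hw', rfl⟩ := hv
    exact ⟨a + a', b + b', w + w', Submodule.add_mem _ hw hw', by module⟩
  | smul c v _ hv =>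
    obtain ⟨a, b, w, hw, rfl⟩ := hv
    exact ⟨c * a, c * b, c • w, Submodule.smul_mem _ _ hw, by module⟩

/-- vectors deep in the filtration are orthogonal to high powers -/
theorem B_Fil (h2 : (2 : F) = 0) (hg : ∀ v, Q (g v) = Q v) {x y v : V} {i : ℕ} (hx : (N g ^ i) x = 0)
    (hy : (N g ^ i) y = 0) {j t : ℕ} (ht : i ≤ j + t) (hv : v ∈ Fil g x y j) (z : V) :
    B Q v ((N g ^ t) z) = 0 := by
  rw [Fil] at hv
  induction hv using Submodule.span_induction with
  | mem v hv =>
    obtain ⟨⟨r, c⟩, rfl⟩ := hv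
    cases c
    · exact B_Npow_zero h2 hg (pow_eq_zero_of_le (by omega) hy) z
    · exact B_Npow_zero h2 hg (pow_eq_zero_of_le (by omega) hx) z
  | zero => rw [map_zero, LinearMap.zero_apply]
  | add u v _ _ hu hv => rw [map_add, LinearMap.add_apply, hu, hv, add_zero]
  | smul c v _ hv => rw [map_smul, LinearMap.smul_apply, hv, smul_zero]

theorem B_Fil_Fil (h2 : (2 : F) = 0) (hg : ∀ v, Q (g v) = Q v) {x y u v : V} {i : ℕ} (hx : (N g ^ i) x = 0)
    (hy : (N g ^ i) y = 0) {j t : ℕ} (ht : i ≤ j + t) (hu : u ∈ Fil g x y j) (hv : v ∈ Fil g x y t) :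
    B Q u v = 0 := by
  rw [Fil] at hv
  induction hv using Submodule.span_induction with
  | mem v hv =>
    obtain ⟨⟨r, c⟩, rfl⟩ := hv
    exact B_Fil h2 hg hx hy (by simp; omega) hu _
  | zero => rw [map_zero]
  | add u v _ _ hu hv => rw [map_add, hu, hv, add_zero]
  | smul c v _ hv => rw [map_smul, hv, smul_zero]

/-- the deep part of the filtration is totally singular -/
theorem ts_Fil (h2 : (2 : F) = 0) (hg : ∀ v, Q (g v) = Q v) {x y : V} {i : ℕ} (hx : (N g ^ i) x = 0)
    (hy : (N g ^ i) y = 0) {j : ℕ} (hj : i ≤ 2 * j) (hqx : ∀ t, j ≤ t → Q ((N g ^ t) x) = 0)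
    (hqy : ∀ t, j ≤ t → Q ((N g ^ t) y) = 0) : TS Q (Fil g x y j) := by
  intro v hv
  rw [Fil] at hv
  induction hv using Submodule.span_induction with
  | mem v hv =>
    obtain ⟨⟨r, c⟩, rfl⟩ := hv
    cases c
    · exact hqy _ (by simp)
    · exact hqx _ (by simp)
  | zero => rw [map_zero]
  | add u v hu hv iu iv =>
    rw [Q_add, iu, iv, B_Fil_Fil h2 hg hx hy (j := j) (t := j) (by omega) hu hv, add_zero, add_zero]
  | smul c v hv iv => rw [Q_smul, iv, mul_zero]

theorem finrank_Fil_le {x y : V} {i : ℕ} (hx : (N g ^ i) x = 0) (hy : (N g ^ i) y = 0) (j : ℕ) :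
    finrank F (Fil g x y j) ≤ 2 * (i - j) := by
  classical
  have h1 : Fil g x y j ≤ Submodule.span F
      (Set.range fun p : Fin (i - j) × Bool => (N g ^ (j + (p.1 : ℕ))) (cond p.2 x y)) := by
    rw [Fil, Submodule.span_le]
    rintro _ ⟨⟨r, c⟩, rfl⟩
    rcases lt_or_ge r (i - j) with hr | hr
    · exact Submodule.subset_span ⟨(⟨r, hr⟩, c), rfl⟩
    · have h0 : (N g ^ (j + r)) (cond c x y) = 0 := by
        cases c
        · exact pow_eq_zero_of_le (by omega) hy
        · exact pow_eq_zero_of_le (by omega) hx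
      change (N g ^ (j + r)) (cond c x y) ∈ _
      rw [h0]
      exact Submodule.zero_mem _
  have hfin : FiniteDimensional F (Submodule.span F
      (Set.range fun p : Fin (i - j) × Bool => (N g ^ (j + (p.1 : ℕ))) (cond p.2 x y))) :=
    FiniteDimensional.span_of_finite F (Set.finite_range _)
  refine (Submodule.finrank_mono h1).trans ((finrank_range_le_card _).trans ?_)
  rw [Fintype.card_prod, Fintype.card_fin, Fintype.card_bool, mul_comm]

theorem finrank_Fil_le' {x : V} {i : ℕ} (hx : (N g ^ i) x = 0) (j : ℕ) :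
    finrank F (Fil g x 0 j) ≤ i - j := by
  classical
  have h1 : Fil g x 0 j ≤ Submodule.span F
      (Set.range fun p : Fin (i - j) => (N g ^ (j + (p : ℕ))) x) := by
    rw [Fil, Submodule.span_le]
    rintro _ ⟨⟨r, c⟩, rfl⟩
    cases c
    · change (N g ^ (j + r)) 0 ∈ _
      rw [map_zero]
      exact Submodule.zero_mem _
    · change (N g ^ (j + r)) x ∈ _
      rcases lt_or_ge r (i - j) with hr | hr
      · exact Submodule.subset_span ⟨⟨r, hr⟩, rfl⟩
      · rw [pow_eq_zero_of_le (by omega) hx]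
        exact Submodule.zero_mem _
  have hfin : FiniteDimensional F (Submodule.span F
      (Set.range fun p : Fin (i - j) => (N g ^ (j + (p : ℕ))) x)) :=
    FiniteDimensional.span_of_finite F (Set.finite_range _)
  refine (Submodule.finrank_mono h1).trans ((finrank_range_le_card _).trans ?_)
  rw [Fintype.card_fin]

/-- no totally singular subspace of half dimension in a minus piece -/
theorem aniso_W [FiniteDimensional F V] (h2 : (2 : F) = 0) (hg : ∀ v, Q (g v) = Q v)
    (hα0 : ∀ l : F, l * l + l ≠ α) {k : ℕ} {x y : V} (hp : IsP Q g α (.W (2 * k + 1) true) x y) :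
    ∀ v ∈ Cyc g x y, (∀ w ∈ Fil g x y (k + 1), B Q w v = 0) → Q v = 0 → v ∈ Fil g x y (k + 1) := by
  intro v hv hperp hq
  have hx := hp.1
  have hy := hp.2.1
  have halt := W_alt h2 hg hp
  have hxy : B Q ((N g ^ (2 * k)) x) y = 1 := by rw [hp.2.2.1, if_pos rfl]
  have key : ∀ j, j ≤ k → v ∈ Fil g x y j := by
    intro j
    induction j with
    | zero => intro _; rw [Fil_zero]; exact hv
    | succ j ih =>
      intro hj
      obtain ⟨a, b, w, hw, hvw⟩ := Fil_step (ih (by omega))
      have tp : ∀ z z' : V, (N g ^ (2 * k + 1)) z = 0 →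
          B Q ((N g ^ j) z) ((N g ^ (2 * k - j)) z') = B Q ((N g ^ (2 * k)) z) z' := by
        intro z z' hz
        rw [B_Npow_top h2 hg]
        · rw [show j + (2 * k - j) = 2 * k by omega]
        · rwa [show j + (2 * k - j) + 1 = 2 * k + 1 by omega]
      have e1 := hperp _ (mem_Fil_right g x y (show k + 1 ≤ 2 * k - j by omega))
      have e2 := hperp _ (mem_Fil_left g x y (show k + 1 ≤ 2 * k - j by omega))
      rw [B_comm, hvw] at e1 e2
      simp only [map_add, map_smul, LinearMap.add_apply, LinearMap.smul_apply, smul_eq_mul] at e1 e2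
      rw [tp x y hx, tp y y hy, B_Fil h2 hg hx hy (by omega) hw, hxy, halt.2, mul_one, mul_zero, add_zero,
        add_zero] at e1
      rw [tp x x hx, tp y x hy, B_Fil h2 hg hx hy (by omega) hw, halt.1, top_symm h2 hg hy, hxy, mul_one, mul_zero,
        zero_add, add_zero] at e2
      rw [hvw, e1, e2, zero_smul, zero_smul, zero_add, zero_add]
      exact hw
  obtain ⟨a, b, w, hw, hvw⟩ := Fil_step (key k le_rfl)
  have hqw : Q w = 0 := ts_Fil h2 hg hx hy (by omega)
    (fun t ht => by rw [hp.2.2.2.1, if_neg (by omega)]) (fun t ht => by rw [hp.2.2.2.2, if_neg (by omega)]) w hw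
  have hqv : Q v = a * a + b * b * α + a * b := by
    have e1 : B Q (a • (N g ^ k) x + b • (N g ^ k) y) w = 0 := by
      rw [B_comm]
      simp only [map_add, map_smul]
      rw [B_Fil h2 hg hx hy (by omega) hw, B_Fil h2 hg hx hy (by omega) hw, smul_zero, smul_zero, add_zero]
    rw [hvw, Q_add, e1, hqw, Q_add, Q_smul, Q_smul, hp.2.2.2.1, hp.2.2.2.2, if_pos ⟨rfl, rfl⟩, if_pos ⟨rfl, rfl⟩]
    simp only [map_smul, LinearMap.smul_apply, smul_eq_mul]
    rw [B_Npow_top h2 hg (by rwa [show k + k + 1 = 2 * k + 1 by ring]), show k + k = 2 * k by ring, hxy]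
    ring
  rw [hq] at hqv
  have hb : b = 0 := by
    by_contra hb
    apply hα0 (a / b)
    field_simp
    linear_combination -hqv - b * b * α * h2
  have ha : a = 0 := by
    rw [hb] at hqv
    simpa using hqv.symm
  rw [hvw, ha, hb, zero_smul, zero_smul, zero_add, zero_add]
  exact hw

/-- the same for the cyclic pieces -/
theorem aniso_C [FiniteDimensional F V] (h2 : (2 : F) = 0) (hg : ∀ v, Q (g v) = Q v)
    (hα0 : ∀ l : F, l * l + l ≠ α) {k : ℕ} {x : V} (hp : IsP Q g α (.C (k + 1) true) x 0) :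
    ∀ v ∈ Cyc g x 0, (∀ w ∈ Fil g x 0 (k + 2), B Q w v = 0) → Q v = 0 → v ∈ Fil g x 0 (k + 2) := by
  intro v hv hperp hq
  have hx : (N g ^ (2 * k + 2)) x = 0 := hp.2.1
  have hy : (N g ^ (2 * k + 2)) (0 : V) = 0 := map_zero _
  have htop := C_top h2 hg hp
  have key : ∀ j, j ≤ k → v ∈ Fil g x 0 j := by
    intro j
    induction j with
    | zero => intro _; rw [Fil_zero]; exact hv
    | succ j ih =>
      intro hj
      obtain ⟨a, b, w, hw, hvw⟩ := Fil_step (ih (by omega))
      have e2 := hperp _ (mem_Fil_left g x 0 (show k + 2 ≤ 2 * k + 1 - j by omega))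
      rw [B_comm, hvw, map_zero, smul_zero, add_zero] at e2
      simp only [map_add, map_smul, LinearMap.add_apply, LinearMap.smul_apply, smul_eq_mul] at e2
      rw [B_Npow_top h2 hg (by rwa [show j + (2 * k + 1 - j) + 1 = 2 * k + 2 by omega]),
        show j + (2 * k + 1 - j) = 2 * k + 1 by omega, htop, B_Fil h2 hg hx hy (by omega) hw, mul_one,
        add_zero] at e2
      rw [hvw, e2, map_zero, zero_smul, smul_zero, zero_add, zero_add]
      exact hw
  obtain ⟨a, b', w', hw', hvw'⟩ := Fil_step (key k le_rfl)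
  obtain ⟨b, b'', w, hw, hvw''⟩ := Fil_step hw'
  have hvw : v = a • (N g ^ k) x + b • (N g ^ (k + 1)) x + w := by
    rw [hvw', hvw'', map_zero, map_zero, smul_zero, smul_zero, add_zero, add_zero, add_assoc]
  have hqw : Q w = 0 := ts_Fil h2 hg hx hy (j := k + 1 + 1) (by omega)
    (fun t ht => by rw [hp.2.2, if_neg (by omega), if_neg (by omega)]) (fun t ht => by rw [map_zero, map_zero]) w hw
  have hqv : Q v = a * a * α + b * b + a * b := by
    have e1 : B Q (a • (N g ^ k) x + b • (N g ^ (k + 1)) x) w = 0 := by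
      rw [B_comm]
      simp only [map_add, map_smul]
      rw [B_Fil h2 hg hx hy (by omega) hw, B_Fil h2 hg hx hy (by omega) hw, smul_zero, smul_zero, add_zero]
    rw [hvw, Q_add, e1, hqw, Q_add, Q_smul, Q_smul, hp.2.2, hp.2.2, if_neg (by omega), if_pos ⟨rfl, rfl⟩,
      if_pos rfl]
    simp only [map_smul, LinearMap.smul_apply, smul_eq_mul]
    rw [← Q_Npow_succ h2 hg, hp.2.2, if_pos rfl]
    ring
  rw [hq] at hqv
  have ha : a = 0 := by
    by_contra ha
    apply hα0 (b / a)
    field_simp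
    linear_combination -hqv - a * a * α * h2
  have hb : b = 0 := by
    rw [ha] at hqv
    simpa using hqv.symm
  rw [hvw, ha, hb, zero_smul, zero_smul, zero_add, zero_add]
  exact hw

theorem ts_W [FiniteDimensional F V] (h2 : (2 : F) = 0) (hg : ∀ v, Q (g v) = Q v) {m : ℕ} {x y : V}
    (hp : IsP Q g α (.W m false) x y) : ∃ T ≤ Cyc g x y, TS Q T ∧ m ≤ finrank F T := by
  have hle : Fil g x 0 0 ≤ Cyc g x y := by
    rw [Fil_zero]
    exact Cyc_le (Cyc_st g x y) (mem_Cyc_left g x y) (Submodule.zero_mem _)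
  have hq : ∀ j, Q ((N g ^ j) x) = 0 := fun j => by rw [hp.2.2.2.1, if_neg (by simp)]
  have hB : ∀ a b, B Q ((N g ^ a) x) ((N g ^ b) x) = 0 := by
    intro a b
    rw [self_gram h2 hg hg x 0 (fun j => by rw [hq, map_zero, map_zero]) a b, map_zero, map_zero,
      LinearMap.zero_apply]
  have hBB : ∀ u ∈ Cyc g x 0, ∀ v ∈ Cyc g x 0, B Q u v = 0 := by
    intro u hu v hv
    rw [Cyc] at hu hv
    induction hu using Submodule.span_induction with
    | mem u hu =>
      obtain ⟨⟨a, c⟩, rfl⟩ := hu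
      induction hv using Submodule.span_induction with
      | mem v hv =>
        obtain ⟨⟨b, d⟩, rfl⟩ := hv
        cases c <;> cases d <;> simp [hB]
      | zero => rw [map_zero]
      | add u v _ _ hu hv => rw [map_add, hu, hv, add_zero]
      | smul c v _ hv => rw [map_smul, hv, smul_zero]
    | zero => rw [map_zero, LinearMap.zero_apply]
    | add u v _ _ hu hv => rw [map_add, LinearMap.add_apply, hu, hv, add_zero]
    | smul c v _ hv => rw [map_smul, LinearMap.smul_apply, hv, smul_zero]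
  refine ⟨Fil g x 0 0, hle, ?_, ?_⟩
  · rw [Fil_zero]
    intro v hv
    have hv' := hv
    rw [Cyc] at hv
    induction hv using Submodule.span_induction with
    | mem v hv =>
      obtain ⟨⟨b, d⟩, rfl⟩ := hv
      cases d
      · change Q ((N g ^ b) 0) = 0
        rw [map_zero, map_zero]
      · exact hq b
    | zero => rw [map_zero]
    | add u v hu hv iu iv => rw [Q_add, iu hu, iv hv, hBB u hu v hv, add_zero, add_zero]
    | smul c v hv iv => rw [Q_smul, iv hv, mul_zero]
  · have h1 := (hp.nd_finrank h2 hg).2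
    have h3 : Cyc g x y ≤ Fil g x 0 0 ⊔ Fil g y 0 0 := by
      rw [Cyc, Submodule.span_le]
      rintro _ ⟨⟨j, b⟩, rfl⟩
      cases b
      · exact Submodule.mem_sup_right (mem_Fil_left g y 0 (Nat.zero_le j))
      · exact Submodule.mem_sup_left (mem_Fil_left g x 0 (Nat.zero_le j))
    have h4 := Submodule.finrank_mono h3
    have h5 := Submodule.finrank_add_le_finrank_add_finrank (Fil g x 0 0) (Fil g y 0 0)
    have h6 := finrank_Fil_le' (g := g) hp.2.1 0
    simp only [Piece.size] at h1
    omega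

theorem ts_C [FiniteDimensional F V] (h2 : (2 : F) = 0) (hg : ∀ v, Q (g v) = Q v) {k : ℕ} {x : V}
    (hp : IsP Q g α (.C (k + 1) false) x 0) : ∃ T ≤ Cyc g x 0, TS Q T ∧ k + 1 ≤ finrank F T := by
  classical
  have hx : (N g ^ (2 * k + 2)) x = 0 := hp.2.1
  have hy : (N g ^ (2 * k + 2)) (0 : V) = 0 := map_zero _
  have hts : TS Q (Fil g x 0 (k + 2)) := ts_Fil h2 hg hx hy (by omega)
    (fun t ht => by rw [hp.2.2, if_neg (by omega), if_neg (by omega)]) (fun t ht => by rw [map_zero, map_zero])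
  refine ⟨(F ∙ (N g ^ k) x) ⊔ Fil g x 0 (k + 2), ?_, ?_, ?_⟩
  · refine sup_le ?_ (Fil_le_Cyc g x 0 _)
    rw [Submodule.span_singleton_le_iff_mem]
    exact Npow_mem_Cyc_left g x 0 k
  · intro v hv
    obtain ⟨a, ha, b, hb, rfl⟩ := Submodule.mem_sup.1 hv
    obtain ⟨c, rfl⟩ := Submodule.mem_span_singleton.1 ha
    rw [Q_add, Q_smul, hp.2.2, if_neg (by omega), if_neg (by simp), hts b hb, map_smul, LinearMap.smul_apply, B_comm,
      B_Fil h2 hg hx hy (by omega) hb, smul_zero, mul_zero, add_zero, add_zero]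
  · have h1 := (hp.nd_finrank h2 hg).2
    obtain ⟨X, hX⟩ : ∃ X : Submodule F V, X = Submodule.span F (Set.range fun j : Fin (k + 1) =>
      (N g ^ (if (j : ℕ) < k then (j : ℕ) else k + 1)) x) := ⟨_, rfl⟩
    have h3 : Cyc g x 0 ≤ ((F ∙ (N g ^ k) x) ⊔ Fil g x 0 (k + 2)) ⊔ X := by
      rw [Cyc, Submodule.span_le]
      rintro _ ⟨⟨j, b⟩, rfl⟩
      cases b
      · change (N g ^ j) 0 ∈ _
        rw [map_zero]; exact Submodule.zero_mem _
      · change (N g ^ j) x ∈ _
        rcases lt_trichotomy j k with hj | rfl | hj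
        · apply Submodule.mem_sup_right
          rw [hX]
          apply Submodule.subset_span
          exact ⟨⟨j, by omega⟩, by simp [hj]⟩
        · apply Submodule.mem_sup_left
          apply Submodule.mem_sup_left
          exact Submodule.mem_span_singleton_self _
        · rcases Nat.lt_or_ge (k + 1) j with hj' | hj'
          · apply Submodule.mem_sup_left
            apply Submodule.mem_sup_right
            exact mem_Fil_left g x 0 hj'
          · obtain rfl : j = k + 1 := by omega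
            apply Submodule.mem_sup_right
            rw [hX]
            apply Submodule.subset_span
            exact ⟨⟨k, by omega⟩, by simp⟩
    have h4 := Submodule.finrank_mono h3
    have h5 := Submodule.finrank_add_le_finrank_add_finrank ((F ∙ (N g ^ k) x) ⊔ Fil g x 0 (k + 2)) X
    have h6 : finrank F X ≤ k + 1 := by
      rw [hX]
      refine (finrank_range_le_card _).trans ?_
      rw [Fintype.card_fin]
    simp only [Piece.size] at h1
    omega

theorem nondeg_of_nd (hV : Nd Q ⊤) : (polarBilin Q).Nondegenerate := by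
  rw [(B_isRefl Q).nondegenerate_iff_separatingLeft]
  intro u hu
  exact hV u trivial fun v _ => hu v

/-- the abstract form of the argument -/
theorem no_flip_aux [FiniteDimensional F V] (hV : Nd Q ⊤) {P R P' R' : Submodule F V} (hPR : P ⊔ R = ⊤)
    (ho : ∀ a ∈ P, ∀ b ∈ R, B Q a b = 0) (ho' : ∀ a ∈ P', ∀ b ∈ R', B Q a b = 0)
    (φ : R ≃ₗ[F] R') (hφ : ∀ v, Q (φ v : V) = Q (v : V)) (hP : Nd Q P) {n : ℕ} (hn : finrank F P = 2 * n)
    {T : Submodule F V} (hTP : T ≤ P') (hT : TS Q T) (hTn : n ≤ finrank F T) {W : Submodule F V} (hWP : W ≤ P)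
    (hWn : finrank F W < n) (han : ∀ v ∈ P, (∀ w ∈ W, B Q w v = 0) → Q v = 0 → v ∈ W) : False := by
  obtain ⟨z, hzQ, hz⟩ := ClassicalGeometry.WittQuad.extend Q (nondeg_of_nd hV) R' R φ.symm (fun v => by
    rw [← hφ, LinearEquiv.apply_symm_apply])
  have hzB : ∀ u v, B Q (z u) (z v) = B Q u v := fun u v => B_g hzQ u v
  have hmem : ∀ v, (∀ r ∈ R, B Q v r = 0) → v ∈ P := by
    intro v hv
    have hvt : v ∈ P ⊔ R := by rw [hPR]; trivial
    obtain ⟨p, hp, r, hr, rfl⟩ := Submodule.mem_sup.1 hvt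
    have hr0 : r = 0 := by
      apply hV r trivial
      intro u _
      have hut : u ∈ P ⊔ R := by rw [hPR]; trivial
      obtain ⟨p', hp', r', hr', rfl⟩ := Submodule.mem_sup.1 hut
      have h1 := hv r' hr'
      rw [map_add, LinearMap.add_apply, ho p hp r' hr', zero_add] at h1
      rw [map_add, h1, B_comm, ho p' hp' r hr, add_zero]
    rw [hr0, add_zero]
    exact hp
  have hzP : ∀ p ∈ P', z p ∈ P := by
    intro p hp
    apply hmem
    intro r hr
    have h1 : z (φ ⟨r, hr⟩ : V) = r := by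
      rw [hz, LinearEquiv.symm_apply_apply]
    rw [← h1, hzB]
    exact ho' p hp _ (φ ⟨r, hr⟩).2
  refine ts_contra hV hP (T := T.map z.toLinearMap) ?_ hWP ?_ hn ?_ hWn han
  · rintro _ ⟨t, ht, rfl⟩
    exact hzP t (hTP ht)
  · rintro _ ⟨t, ht, rfl⟩
    change Q (z t) = 0
    rw [hzQ]
    exact hT t ht
  · rw [LinearEquiv.finrank_map_eq]
    exact hTn

/-- **The sign of one piece is determined by the rest and the ambient space.** -/
theorem no_flip [FiniteDimensional F V] (h2 : (2 : F) = 0) (hα0 : ∀ l : F, l * l + l ≠ α) (hV : Nd Q ⊤)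
    {g g' : V ≃ₗ[F] V} (hg : ∀ v, Q (g v) = Q v) (hg' : ∀ v, Q (g' v) = Q v)
    {p p' : Piece} (hpp : (∃ k, p = .W (2 * k + 1) true ∧ p' = .W (2 * k + 1) false) ∨
      ∃ k, p = .C k true ∧ p' = .C k false) {x y x' y' : V} (hp : IsP Q g α p x y) (hp' : IsP Q g' α p' x' y')
    {R R' : Submodule F V} (hPR : Cyc g x y ⊔ R = ⊤)
    (ho : ∀ a ∈ Cyc g x y, ∀ b ∈ R, B Q a b = 0) (ho' : ∀ a ∈ Cyc g' x' y', ∀ b ∈ R', B Q a b = 0)
    (φ : R ≃ₗ[F] R') (hφ : ∀ v, Q (φ v : V) = Q (v : V)) : False := by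
  have hP := hp.nd_finrank h2 hg
  rcases hpp with ⟨k, rfl, rfl⟩ | ⟨k, rfl, rfl⟩
  · obtain ⟨T, hTP, hT, hTn⟩ := ts_W h2 hg' hp'
    refine no_flip_aux hV hPR ho ho' φ hφ hP.1 (n := 2 * k + 1) hP.2 hTP hT hTn
      (W := Fil g x y (k + 1)) (Fil_le_Cyc g x y _) ?_ (aniso_W h2 hg hα0 hp)
    have := finrank_Fil_le (g := g) hp.1 hp.2.1 (k + 1)
    omega
  · cases k with
    | zero =>
      have hx : x = 0 := hp.2.1
      have h1 := hp.2.2 0
      rw [hx, map_zero, map_zero, if_pos rfl] at h1
      exact zero_ne_one h1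
    | succ k =>
      have hy : y = 0 := hp.1
      have hy' : y' = 0 := hp'.1
      subst hy hy'
      obtain ⟨T, hTP, hT, hTn⟩ := ts_C h2 hg' hp'
      refine no_flip_aux hV hPR ho ho' φ hφ hP.1 (n := k + 1) hP.2 hTP hT hTn
        (W := Fil g x 0 (k + 2)) (Fil_le_Cyc g x 0 _) ?_ (aniso_C h2 hg hα0 hp)
      have := finrank_Fil_le' (g := g) (show (N g ^ (2 * k + 2)) x = 0 from hp.2.1) (k + 2)
      omega

end Cfsg.Agent.H170.Uni
end

-- part: H171/RestType
section
/-!
# Splitting off the part of an isometry with eigenvalue `1` (or `-1`), and gluing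

* `exists_fitting`, `exists_fitting_quad` : `V = E ⊥ R`, `g` restricts to `E` (where `g - c` is nilpotent) and to `R` (where
  `c` is no eigenvalue), for an isometry `g` of a nondegenerate reflexive bilinear / quadratic form, `c * c = 1`;
* `glue_bilin`, `glue_quad` : gluing of equivariant isometries;
* `rest_isometry`, `rest_isometry_quad` : without eigenvalues `± 1` the type determines the isometry class;
* `conj_of_parts_quad`, ...: both together.
-/

set_option autoImplicit false

namespace Cfsg.Agent.H171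

open Polynomial Module QuadraticMap

section Fitting

variable {F : Type*} [Field F] {V : Type*} [AddCommGroup V] [Module F V] [FiniteDimensional F V]

/-- **Fitting decomposition of an isometry with respect to an eigenvalue `c = ± 1`.** -/
theorem exists_fitting (b : V →ₗ[F] V →ₗ[F] F) (hb : ∀ u, (∀ v, b u v = 0) → u = 0)
    (hr : ∀ u v, b u v = 0 → b v u = 0) (g : V ≃ₗ[F] V) (hg : ∀ u v, b (g u) (g v) = b u v) (c : F)
    (hc : c * c = 1) :
    ∃ (E R : Submodule F V) (gE : E ≃ₗ[F] E) (gR : R ≃ₗ[F] R) (N : ℕ),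
      IsCompl E R ∧ (∀ u ∈ E, ∀ v ∈ R, b u v = 0) ∧ (∀ u : E, (gE u : V) = g u) ∧ (∀ u : R, (gR u : V) = g u) ∧
      (gE.toLinearMap - c • (1 : Module.End F E) : Module.End F E) ^ N = 0 ∧ (∀ u : R, gR u = c • u → u = 0) ∧
      (∀ u : E, (∀ v : E, b u v = 0) → u = 0) ∧ (∀ u : R, (∀ v : R, b u v = 0) → u = 0) := by
  have hc0 : c ≠ 0 := by
    rintro rfl
    rw [zero_mul] at hc
    exact zero_ne_one hc
  set n : Module.End F V := g.toLinearMap - c • (1 : Module.End F V) with hn
  have hn1 : ∀ v, n v = g v - c • v := fun v => rfl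
  have hgn : ∀ v, g (n v) = n (g v) := fun v => by rw [hn1, hn1, map_sub, map_smul]
  have hgnk : ∀ (k : ℕ) (v : V), g ((n ^ k) v) = (n ^ k) (g v) := by
    intro k
    induction k with
    | zero => intro v; rfl
    | succ k ih => intro v; rw [pow_succ, Module.End.mul_apply, ih, hgn, Module.End.mul_apply]
  have hadj : ∀ u v, b (n u) (g v) = -c * b u (n v) := fun u v => by
    rw [hn1, hn1, map_sub, map_sub, map_smul, LinearMap.sub_apply, LinearMap.smul_apply, hg, map_smul, smul_eq_mul,
      smul_eq_mul]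
    linear_combination -(b u v) * hc
  have hadjk : ∀ (k : ℕ) (u v : V), b ((n ^ k) u) ((g.toLinearMap ^ k) v) = (-c) ^ k * b u ((n ^ k) v) := by
    intro k
    induction k with
    | zero => intro u v; simp
    | succ k ih =>
      intro u v
      rw [pow_succ', Module.End.mul_apply, pow_succ' g.toLinearMap, Module.End.mul_apply]
      show b (n ((n ^ k) u)) (g ((g.toLinearMap ^ k) v)) = _
      have h1 : n ((g.toLinearMap ^ k) v) = (g.toLinearMap ^ k) (n v) := by
        clear ih
        induction k generalizing v with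
        | zero => rfl
        | succ k ih2 =>
          rw [pow_succ, Module.End.mul_apply, ih2, Module.End.mul_apply]
          exact congrArg _ (hgn v).symm
      have h2 : (n ^ k) (n v) = n ((n ^ k) v) := by
        rw [← Module.End.mul_apply, ← Module.End.mul_apply, ← pow_succ, ← pow_succ']
      rw [hadj, h1, ih, h2, Module.End.mul_apply, pow_succ]
      ring
  obtain ⟨N₀, hN₀⟩ := Filter.eventually_atTop.1 (LinearMap.eventually_isCompl_ker_pow_range_pow n)
  have hcompl := hN₀ (N₀ + 1) (Nat.le_succ _)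
  set N := N₀ + 1 with hN
  set E := LinearMap.ker (n ^ N) with hE
  set R := LinearMap.range (n ^ N) with hR
  have horth : ∀ u ∈ E, ∀ v ∈ R, b u v = 0 := by
    intro u hu v hv
    obtain ⟨w, rfl⟩ := LinearMap.mem_range.1 hv
    have h1 := hadjk N u w
    rw [LinearMap.mem_ker.1 hu, map_zero, LinearMap.zero_apply] at h1
    have h2 : (-c) ^ N ≠ 0 := pow_ne_zero _ (neg_ne_zero.2 hc0)
    exact (mul_eq_zero.1 h1.symm).resolve_left h2
  have hEmap : E.map g.toLinearMap = E := by
    ext w
    rw [Submodule.mem_map]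
    constructor
    · rintro ⟨v, hv, rfl⟩
      rw [LinearMap.mem_ker] at hv ⊢
      show (n ^ N) (g v) = 0
      rw [← hgnk, hv, map_zero]
    · intro hw
      refine ⟨g.symm w, ?_, g.apply_symm_apply w⟩
      rw [LinearMap.mem_ker] at hw ⊢
      apply g.injective
      rw [hgnk, g.apply_symm_apply, hw, map_zero]
  have hRmap : R.map g.toLinearMap = R := by
    ext w
    rw [Submodule.mem_map]
    constructor
    · rintro ⟨v, hv, rfl⟩
      obtain ⟨x, rfl⟩ := LinearMap.mem_range.1 hv
      exact ⟨g x, (hgnk N x).symm⟩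
    · intro hw
      obtain ⟨x, rfl⟩ := LinearMap.mem_range.1 hw
      refine ⟨(n ^ N) (g.symm x), LinearMap.mem_range_self _ _, ?_⟩
      show g ((n ^ N) (g.symm x)) = _
      rw [hgnk, g.apply_symm_apply]
  let gE : E ≃ₗ[F] E := g.ofSubmodules E E hEmap
  let gR : R ≃ₗ[F] R := g.ofSubmodules R R hRmap
  have hgE : ∀ u : E, (gE u : V) = g u := fun u => rfl
  have hgR : ∀ u : R, (gR u : V) = g u := fun u => rfl
  refine ⟨E, R, gE, gR, N, hcompl, horth, hgE, hgR, ?_, ?_, ?_, ?_⟩
  · have h1 : ∀ (k : ℕ) (u : E),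
        ((((gE.toLinearMap - c • (1 : Module.End F E) : Module.End F E) ^ k) u : E) : V) = (n ^ k) u := by
      intro k
      induction k with
      | zero => intro u; rfl
      | succ k ih =>
        intro u
        have h2 := ih ((gE.toLinearMap - c • (1 : Module.End F E) : Module.End F E) u)
        rw [pow_succ, Module.End.mul_apply, h2, pow_succ, Module.End.mul_apply]
        rfl
    ext u
    rw [h1]
    exact LinearMap.mem_ker.1 u.2
  · intro u hu
    have h1 : n (u : V) = 0 := by
      rw [hn1, ← hgR, hu, Submodule.coe_smul, sub_self]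
    have h2 : (u : V) ∈ E := by
      rw [LinearMap.mem_ker, hN, pow_succ, Module.End.mul_apply, h1, map_zero]
    have h3 : (u : V) ∈ E ⊓ R := ⟨h2, u.2⟩
    rw [hcompl.inf_eq_bot, Submodule.mem_bot] at h3
    exact Subtype.ext h3
  · intro u hu
    apply Subtype.ext
    apply hb
    intro v
    have hv : v ∈ E ⊔ R := by rw [hcompl.sup_eq_top]; trivial
    obtain ⟨x, hx, y, hy, rfl⟩ := Submodule.mem_sup.1 hv
    rw [map_add, hu ⟨x, hx⟩, horth u u.2 y hy, add_zero]
  · intro u hu
    apply Subtype.ext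
    apply hb
    intro v
    have hv : v ∈ E ⊔ R := by rw [hcompl.sup_eq_top]; trivial
    obtain ⟨x, hx, y, hy, rfl⟩ := Submodule.mem_sup.1 hv
    rw [map_add, hu ⟨y, hy⟩, hr _ _ (horth x hx u u.2), add_zero]

/-- **Fitting decomposition, quadratic forms.** -/
theorem exists_fitting_quad (Q : QuadraticForm F V) (hQ : (polarBilin Q).Nondegenerate) (g : V ≃ₗ[F] V)
    (hg : ∀ v, Q (g v) = Q v) (c : F) (hc : c * c = 1) :
    ∃ (E R : Submodule F V) (gE : E ≃ₗ[F] E) (gR : R ≃ₗ[F] R) (N : ℕ),
      IsCompl E R ∧ (∀ u ∈ E, ∀ v ∈ R, polar Q u v = 0) ∧ (∀ u : E, (gE u : V) = g u) ∧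
      (∀ u : R, (gR u : V) = g u) ∧
      (gE.toLinearMap - c • (1 : Module.End F E) : Module.End F E) ^ N = 0 ∧ (∀ u : R, gR u = c • u → u = 0) ∧
      (polarBilin (Q.comp E.subtype)).Nondegenerate ∧ (polarBilin (Q.comp R.subtype)).Nondegenerate := by
  have hsym : ∀ u v, polarBilin Q u v = polarBilin Q v u := fun u v => polar_comm Q u v
  have hgB : ∀ u v, polarBilin Q (g u) (g v) = polarBilin Q u v := fun u v => by
    show polar Q (g u) (g v) = polar Q u v
    unfold polar
    rw [← map_add, hg, hg, hg]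
  obtain ⟨E, R, gE, gR, N, h1, h2, h3, h4, h5, h6, h7, h8⟩ := exists_fitting (polarBilin Q) hQ.1
    (fun u v h => by rw [hsym, h]) g hgB c hc
  have key : ∀ (S : Submodule F V), (∀ u : S, (∀ v : S, polarBilin Q u v = 0) → u = 0) →
      (polarBilin (Q.comp S.subtype)).Nondegenerate := by
    intro S hS
    refine ⟨fun u hu => hS u (fun v => ?_), fun u hu => hS u (fun v => ?_)⟩
    · have h9 := hu v
      exact h9
    · have h9 := hu v
      rw [hsym]
      exact h9
  exact ⟨E, R, gE, gR, N, h1, h2, h3, h4, h5, h6, key E h7, key R h8⟩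

end Fitting

section Glue

variable {F : Type*} [Field F] {V : Type*} [AddCommGroup V] [Module F V] {V' : Type*} [AddCommGroup V'] [Module F V']

/-- the linear equivalence glued from two complements -/
theorem exists_glue {E R : Submodule F V} {E' R' : Submodule F V'} (h : IsCompl E R) (h' : IsCompl E' R')
    (zE : E ≃ₗ[F] E') (zR : R ≃ₗ[F] R') :
    ∃ z : V ≃ₗ[F] V', (∀ u : E, z u = zE u) ∧ (∀ u : R, z u = zR u) := by
  let z : V ≃ₗ[F] V' := (Submodule.prodEquivOfIsCompl E R h).symm.trans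
    ((LinearEquiv.prodCongr zE zR).trans (Submodule.prodEquivOfIsCompl E' R' h'))
  refine ⟨z, fun u => ?_, fun u => ?_⟩
  · show Submodule.prodEquivOfIsCompl E' R' h' (LinearEquiv.prodCongr zE zR
      ((Submodule.prodEquivOfIsCompl E R h).symm u)) = _
    rw [Submodule.prodEquivOfIsCompl_symm_apply_left]
    simp
  · show Submodule.prodEquivOfIsCompl E' R' h' (LinearEquiv.prodCongr zE zR
      ((Submodule.prodEquivOfIsCompl E R h).symm u)) = _
    rw [Submodule.prodEquivOfIsCompl_symm_apply_right]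
    simp

theorem exists_add_of_isCompl {E R : Submodule F V} (h : IsCompl E R) (v : V) :
    ∃ (x : E) (y : R), v = x + y := by
  have hv : v ∈ E ⊔ R := by rw [h.sup_eq_top]; trivial
  obtain ⟨x, hx, y, hy, rfl⟩ := Submodule.mem_sup.1 hv
  exact ⟨⟨x, hx⟩, ⟨y, hy⟩, rfl⟩

/-- **Gluing of equivariant isometries, bilinear forms.** -/
theorem glue_bilin (b : V →ₗ[F] V →ₗ[F] F) (b' : V' →ₗ[F] V' →ₗ[F] F)
    (hr : ∀ u v, b u v = 0 → b v u = 0) (hr' : ∀ u v, b' u v = 0 → b' v u = 0)
    (g : V ≃ₗ[F] V) (g' : V' ≃ₗ[F] V')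
    {E R : Submodule F V} {E' R' : Submodule F V'} (h : IsCompl E R) (h' : IsCompl E' R')
    (ho : ∀ u ∈ E, ∀ v ∈ R, b u v = 0) (ho' : ∀ u ∈ E', ∀ v ∈ R', b' u v = 0)
    (gE : E ≃ₗ[F] E) (gR : R ≃ₗ[F] R) (hgE : ∀ u : E, (gE u : V) = g u) (hgR : ∀ u : R, (gR u : V) = g u)
    (gE' : E' ≃ₗ[F] E') (gR' : R' ≃ₗ[F] R') (hgE' : ∀ u : E', (gE' u : V') = g' u)
    (hgR' : ∀ u : R', (gR' u : V') = g' u)
    (zE : E ≃ₗ[F] E') (hzE : ∀ u, zE (gE u) = gE' (zE u)) (hzE' : ∀ u v : E, b' (zE u) (zE v) = b u v)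
    (zR : R ≃ₗ[F] R') (hzR : ∀ u, zR (gR u) = gR' (zR u)) (hzR' : ∀ u v : R, b' (zR u) (zR v) = b u v) :
    ∃ z : V ≃ₗ[F] V', (∀ v, z (g v) = g' (z v)) ∧ ∀ u v, b' (z u) (z v) = b u v := by
  obtain ⟨z, hz1, hz2⟩ := exists_glue h h' zE zR
  refine ⟨z, fun v => ?_, fun u v => ?_⟩
  · obtain ⟨x, y, rfl⟩ := exists_add_of_isCompl h v
    rw [map_add, map_add, map_add, map_add, ← hgE, ← hgR, hz1, hz2, hz1, hz2, hzE, hzR, hgE', hgR']
  · obtain ⟨x, y, rfl⟩ := exists_add_of_isCompl h u
    obtain ⟨x', y', rfl⟩ := exists_add_of_isCompl h v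
    simp only [map_add, LinearMap.add_apply, hz1, hz2, hzE', hzR']
    rw [ho' _ (zE x).2 _ (zR y').2, hr' _ _ (ho' _ (zE x').2 _ (zR y).2), ho _ x.2 _ y'.2,
      hr _ _ (ho _ x'.2 _ y.2)]

/-- **Gluing of equivariant isometries, quadratic forms.** -/
theorem glue_quad (Q : QuadraticForm F V) (Q' : QuadraticForm F V')
    (g : V ≃ₗ[F] V) (g' : V' ≃ₗ[F] V')
    {E R : Submodule F V} {E' R' : Submodule F V'} (h : IsCompl E R) (h' : IsCompl E' R')
    (ho : ∀ u ∈ E, ∀ v ∈ R, polar Q u v = 0) (ho' : ∀ u ∈ E', ∀ v ∈ R', polar Q' u v = 0)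
    (gE : E ≃ₗ[F] E) (gR : R ≃ₗ[F] R) (hgE : ∀ u : E, (gE u : V) = g u) (hgR : ∀ u : R, (gR u : V) = g u)
    (gE' : E' ≃ₗ[F] E') (gR' : R' ≃ₗ[F] R') (hgE' : ∀ u : E', (gE' u : V') = g' u)
    (hgR' : ∀ u : R', (gR' u : V') = g' u)
    (zE : E ≃ₗ[F] E') (hzE : ∀ u, zE (gE u) = gE' (zE u)) (hzE' : ∀ u : E, Q' (zE u : V') = Q (u : V))
    (zR : R ≃ₗ[F] R') (hzR : ∀ u, zR (gR u) = gR' (zR u)) (hzR' : ∀ u : R, Q' (zR u : V') = Q (u : V)) :
    ∃ z : V ≃ₗ[F] V', (∀ v, z (g v) = g' (z v)) ∧ ∀ v, Q' (z v) = Q v := by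
  obtain ⟨z, hz1, hz2⟩ := exists_glue h h' zE zR
  refine ⟨z, fun v => ?_, fun v => ?_⟩
  · obtain ⟨x, y, rfl⟩ := exists_add_of_isCompl h v
    rw [map_add, map_add, map_add, map_add, ← hgE, ← hgR, hz1, hz2, hz1, hz2, hzE, hzR, hgE', hgR']
  · obtain ⟨x, y, rfl⟩ := exists_add_of_isCompl h v
    rw [map_add, hz1, hz2, QuadraticMap.map_add Q, QuadraticMap.map_add Q', hzE', hzR', ho _ x.2 _ y.2,
      ho' _ (zE x).2 _ (zR y).2]

end Glue

section Rest

variable {F : Type*} [Field F] {V : Type*} [AddCommGroup V] [Module F V] [FiniteDimensional F V]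
  {W : Type*} [AddCommGroup W] [Module F W] [FiniteDimensional F W]

omit [FiniteDimensional F V] in
/-- no eigenvalue `± 1` ⇒ no fixed vector of the square -/
theorem sq_fix (g : V ≃ₗ[F] V) (h1 : ∀ v, g v = v → v = 0) (h2 : ∀ v, g v = -v → v = 0) :
    ∀ v, g (g v) = v → v = 0 := by
  intro v hv
  apply h2
  have h3 : g v + v = 0 := by
    apply h1
    rw [map_add, hv, add_comm]
  exact eq_neg_of_add_eq_zero_left h3

/-- **Without eigenvalues `± 1` the type determines the isometry class: `ε`-symmetric bilinear forms.** -/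
theorem rest_isometry [Finite F] (b : V →ₗ[F] V →ₗ[F] F) (b' : W →ₗ[F] W →ₗ[F] F) (ε : F)
    (hb : ∀ u, (∀ v, b u v = 0) → u = 0) (hb' : ∀ u, (∀ v, b' u v = 0) → u = 0)
    (hs : ∀ u v, b v u = ε * b u v) (hs' : ∀ u v, b' v u = ε * b' u v)
    (g : V ≃ₗ[F] V) (h : W ≃ₗ[F] W) (hg : ∀ u v, b (g u) (g v) = b u v) (hh : ∀ u v, b' (h u) (h v) = b' u v)
    (hf : ∀ v, g (g v) = v → v = 0) (ht : ∀ j, typ g.toLinearMap j = typ h.toLinearMap j) :
    ∃ z : V ≃ₗ[F] W, (∀ v, z (g v) = h (z v)) ∧ ∀ u v, b' (z u) (z v) = b u v := by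
  obtain ⟨x, hx⟩ := exists_equiv_of_typ_eq ht
  exact Cfsg.Agent.H193.InvForm.exists_isometry b b' ε hb hb' hs hs' g h hg hh hf x hx

/-- **Without eigenvalues `± 1` the type determines the isometry class: quadratic forms.** -/
theorem rest_isometry_quad [Finite F] (Q : QuadraticForm F V) (Q' : QuadraticForm F W)
    (hQ : (polarBilin Q).Nondegenerate) (hQ' : (polarBilin Q').Nondegenerate)
    (g : V ≃ₗ[F] V) (h : W ≃ₗ[F] W) (hg : ∀ v, Q (g v) = Q v) (hh : ∀ v, Q' (h v) = Q' v)
    (hf : ∀ v, g (g v) = v → v = 0) (ht : ∀ j, typ g.toLinearMap j = typ h.toLinearMap j) :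
    ∃ z : V ≃ₗ[F] W, (∀ v, z (g v) = h (z v)) ∧ ∀ v, Q' (z v) = Q v := by
  obtain ⟨x, hx⟩ := exists_equiv_of_typ_eq ht
  exact Cfsg.Agent.H193.InvForm.exists_isometry_quad Q Q' hQ hQ' g h hg hh hf x hx

end Rest

end Cfsg.Agent.H171
end

-- part: H170/Rep
section
/-!
# The data of an isometry of a quadratic space in characteristic two

* `Rep Q g α D` : `D` are data of `g`; `exists_rep` : existence;
* `Rep.iso` : the same data give isometric pairs; `Rep.isoB` : the same for the polar forms, forgetting signs of `W 1`, `C 1`;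
* `Rep.no_flip` : changing one sign is impossible without changing the type of the quadratic form.
-/

set_option autoImplicit false

namespace Cfsg.Agent.H170.Uni

open Polynomial Module QuadraticMap

variable {F : Type*} [Field F] {V : Type*} [AddCommGroup V] [Module F V] [FiniteDimensional F V]
variable {V' : Type*} [AddCommGroup V'] [Module F V'] [FiniteDimensional F V']

/-- `D` are data of `g` -/
def Rep (Q : QuadraticForm F V) (g : V ≃ₗ[F] V) (α : F) (D : Dat F) : Prop :=
  ∃ (E R : Submodule F V) (gR : R ≃ₗ[F] R) (L : List Piece),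
    IsCompl E R ∧ (∀ u ∈ E, ∀ v ∈ R, B Q u v = 0) ∧ (∀ u : R, (gR u : V) = g u) ∧
    Nd Q E ∧ Nd Q R ∧ Dec Q g α L E ∧ NF L ∧ (∀ u : R, gR (gR u) = u → u = 0) ∧
    D = datOf (H171.typ gR.toLinearMap) L

omit [FiniteDimensional F V] in
theorem nd_comp {Q : QuadraticForm F V} {S : Submodule F V} (h : (polarBilin (Q.comp S.subtype)).Nondegenerate) :
    Nd Q S := by
  intro u hu huv
  have h1 := h.1 ⟨u, hu⟩ (fun v => huv v v.2)
  exact congrArg Subtype.val h1

omit [FiniteDimensional F V] in
theorem comp_nd' {Q : QuadraticForm F V} {S : Submodule F V} (h : Nd Q S) :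
    (polarBilin (Q.comp S.subtype)).Nondegenerate := by
  refine ⟨fun u hu => Subtype.ext (h u u.2 fun v hv => hu ⟨v, hv⟩), fun u hu => Subtype.ext (h u u.2 fun v hv => ?_)⟩
  rw [B_comm]
  exact hu ⟨v, hv⟩

omit [FiniteDimensional F V] in
theorem pow_restrict {g : V ≃ₗ[F] V} {E : Submodule F V} {gE : E ≃ₗ[F] E} (hgE : ∀ u : E, (gE u : V) = g u) (k : ℕ)
    (u : E) : ((((gE.toLinearMap - (1 : F) • (1 : Module.End F E) : Module.End F E) ^ k) u : E) : V) = (N g ^ k) u := by
  induction k generalizing u with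
  | zero => rfl
  | succ k ih =>
    rw [pow_succ, Module.End.mul_apply, ih, pow_succ, Module.End.mul_apply]
    congr 1
    show ((gE u - (1 : F) • u : E) : V) = g u - (u : V)
    rw [Submodule.coe_sub, hgE, one_smul]

/-- **Existence of the data.** -/
theorem exists_rep (h2 : (2 : F) = 0) (hsq : ∀ c : F, ∃ d, d * d = c) {α : F}
    (hα : ∀ r : F, (∃ l, l * l + l = r) ∨ ∃ l, l * l + l = r + α) {Q : QuadraticForm F V} (hQ : Nd Q ⊤)
    {g : V ≃ₗ[F] V} (hg : ∀ v, Q (g v) = Q v) {n : ℕ} (hn : finrank F V = 2 * n) :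
    ∃ D : Dat F, D.Ok n ∧ Rep Q g α D := by
  obtain ⟨E, R, gE, gR, M, h1, h3, h4, h5, h6, h7, h8, h9⟩ :=
    H171.exists_fitting_quad Q (nondeg_of_nd hQ) g hg 1 (mul_one 1)
  have hE : St g E := fun v hv => by
    rw [← h4 ⟨v, hv⟩]
    exact (gE ⟨v, hv⟩).2
  obtain ⟨L, hL, hNF⟩ := exists_normal h2 hsq hα hg (finrank F E) E hE (nd_comp h8)
    ⟨M, fun u hu => by
      rw [← pow_restrict h4 M ⟨u, hu⟩, h6]
      rfl⟩ rfl
  have h10 := hL.nd_finrank h2 hg
  have h11 : finrank F E + finrank F R = 2 * n := by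
    rw [Submodule.finrank_add_eq_of_isCompl h1, hn]
  have hgR1 : ∀ u, gR u = u → u = 0 := fun u hu => h7 u (by rw [hu, one_smul])
  have hneg : ∀ v : R, -v = v := fun v => by
    apply Subtype.ext
    rw [Submodule.coe_neg]
    have : (2 : F) • (v : V) = 0 := by rw [h2, zero_smul]
    rw [two_smul] at this
    exact neg_eq_of_add_eq_zero_left this
  have hgR2 : ∀ u, gR u = -u → u = 0 := fun u hu => hgR1 u (by rw [hu, hneg])
  have hgRQ : ∀ v, (Q.comp R.subtype) (gR v) = (Q.comp R.subtype) v := fun v => by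
    show Q (gR v : V) = Q (v : V)
    rw [h5, hg]
  have hb : ∀ u v, polarBilin (Q.comp R.subtype) (gR u) (gR v) = polarBilin (Q.comp R.subtype) u v := fun u v => by
    show polar (Q.comp R.subtype) (gR u) (gR v) = polar (Q.comp R.subtype) u v
    unfold polar
    rw [← map_add, hgRQ, hgRQ, hgRQ]
  refine ⟨datOf (H171.typ gR.toLinearMap) L, ?_, E, R, gR, L, h1, h3, h5, nd_comp h8, nd_comp h9, hL, hNF,
    H171.sq_fix gR hgR1 hgR2, rfl⟩
  refine datOf_ok hNF (H171.typ_monic _)
    (fun j => (H171.typ_pal _ h9.1 gR hb hgR1 j).2)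
    (fun j => H171.typ_eval_ne (fun v hv => hgR1 v (by rw [one_smul] at hv; exact hv)) j)
    (fun j => H171.typ_even _ h9.1 gR hb hgR1 hgR2 j) (H171.typ_zero _)
    (fun j hj => H171.typ_big _ (by omega)) ?_
  rw [H171.sum_typ _ (by omega : finrank F R ≤ 2 * n), ← h10.2]
  omega

section Iso

variable {Q : QuadraticForm F V} {g : V ≃ₗ[F] V} {Q' : QuadraticForm F V'} {g' : V' ≃ₗ[F] V'} {α : F}

/-- the same list up to order and up to the signs of `W 1`, `C 1` -/
theorem Dec.iso_perm (h2 : (2 : F) = 0) (hg : ∀ v, Q (g v) = Q v)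
    (hg' : ∀ v, Q' (g' v) = Q' v) {L L' : List Piece} {U : Submodule F V} {U' : Submodule F V'}
    (hLL : (L.map Piece.forget).Perm (L'.map Piece.forget)) (h : Dec Q g α L U) (h' : Dec Q' g' α L' U') :
    Iso Q g Q' g' (L.Perm L') U U' := by
  by_cases hp : L.Perm L'
  · obtain ⟨T, t1, t2, t3⟩ := Dec.iso h2 hg hg' (L := L) (L' := L) rfl h (h'.perm hp.symm)
    exact ⟨T, t1, t2, fun _ => t3 rfl⟩
  · obtain ⟨L'', h3, h4⟩ := exists_perm_map Piece.forget hLL
    obtain ⟨T, t1, t2, t3⟩ := Dec.iso h2 hg hg' (L := L) (L' := L'') h4.symm h (h'.perm h3.symm)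
    exact ⟨T, t1, t2, fun hc => absurd hc hp⟩

theorem rest_iso [Finite F] (hg : ∀ v, Q (g v) = Q v) (hg' : ∀ v, Q' (g' v) = Q' v) {R : Submodule F V}
    {R' : Submodule F V'} {gR : R ≃ₗ[F] R} {gR' : R' ≃ₗ[F] R'} (hgR : ∀ u : R, (gR u : V) = g u)
    (hgR' : ∀ u : R', (gR' u : V') = g' u) (hR : Nd Q R) (hR' : Nd Q' R') (hf : ∀ u : R, gR (gR u) = u → u = 0)
    (ht : H171.typ gR.toLinearMap = H171.typ gR'.toLinearMap) :
    ∃ z : R ≃ₗ[F] R', (∀ v, z (gR v) = gR' (z v)) ∧ ∀ v, Q' (z v : V') = Q (v : V) := by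
  obtain ⟨z, z1, z2⟩ := H171.rest_isometry_quad (Q.comp R.subtype) (Q'.comp R'.subtype) (comp_nd' hR) (comp_nd' hR') gR gR'
    (fun v => by
      show Q (gR v : V) = Q (v : V)
      rw [hgR, hg])
    (fun v => by
      show Q' (gR' v : V') = Q' (v : V')
      rw [hgR', hg']) hf (fun j => congrFun ht j)
  exact ⟨z, z1, z2⟩

/-- **The same data give isometric pairs.** -/
theorem Rep.iso [Finite F] (h2 : (2 : F) = 0) (hg : ∀ v, Q (g v) = Q v) (hg' : ∀ v, Q' (g' v) = Q' v) {D : Dat F}
    (h : Rep Q g α D) (h' : Rep Q' g' α D) : ∃ z : V ≃ₗ[F] V', (∀ v, z (g v) = g' (z v)) ∧ ∀ v, Q' (z v) = Q v := by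
  obtain ⟨E, R, gR, L, a1, a2, a3, a4, a5, a6, a7, a8, a9⟩ := h
  obtain ⟨E', R', gR', L', b1, b2, b3, b4, b5, b6, b7, b8, b9⟩ := h'
  have hD := a9.symm.trans b9
  simp only [datOf, Dat.mk.injEq] at hD
  obtain ⟨d1, d2, d3, d4, d5⟩ := hD
  have hp := perm_of_dat a7 b7 d2 d3 (fun m => congrFun d4 m) (fun m => congrFun d5 m)
  obtain ⟨zE, e1, e2, e3⟩ := Dec.iso h2 hg hg' (L := L) (L' := L) rfl a6 (b6.perm hp.symm)
  obtain ⟨zR, r1, r2⟩ := rest_iso hg hg' a3 b3 a5 b5 a8 d1
  have hEst := a6.st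
  have hEst' := b6.st
  have hEmap : E.map g.toLinearMap = E := Submodule.eq_of_le_of_finrank_eq (by
    rintro _ ⟨v, hv, rfl⟩
    exact hEst v hv) (LinearEquiv.finrank_map_eq g E)
  have hEmap' : E'.map g'.toLinearMap = E' := Submodule.eq_of_le_of_finrank_eq (by
    rintro _ ⟨v, hv, rfl⟩
    exact hEst' v hv) (LinearEquiv.finrank_map_eq g' E')
  refine H171.glue_quad Q Q' g g' a1 b1 a2 b2 (g.ofSubmodules E E hEmap) gR (fun u => rfl) a3
    (g'.ofSubmodules E' E' hEmap') gR' (fun u => rfl) b3 zE (fun u => ?_) (e3 rfl) zR r1 r2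
  apply Subtype.ext
  exact e2 u _ rfl

/-- **The data without the signs of `W 1`, `C 1` determine the pair (polar form, isometry).** -/
theorem Rep.isoB [Finite F] (h2 : (2 : F) = 0) (hg : ∀ v, Q (g v) = Q v) (hg' : ∀ v, Q' (g' v) = Q' v) {D D' : Dat F}
    (h : Rep Q g α D) (h' : Rep Q' g' α D') (hf : D.f = D'.f) (ha : D.a = D'.a) (hb : D.b = D'.b)
    (hs : ∀ m, m ≠ 1 → D.s m = D'.s m) (ht : ∀ m, m ≠ 1 → D.t m = D'.t m) :
    ∃ z : V ≃ₗ[F] V', (∀ v, z (g v) = g' (z v)) ∧ ∀ u v, B Q' (z u) (z v) = B Q u v := by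
  obtain ⟨E, R, gR, L, a1, a2, a3, a4, a5, a6, a7, a8, rfl⟩ := h
  obtain ⟨E', R', gR', L', b1, b2, b3, b4, b5, b6, b7, b8, rfl⟩ := h'
  obtain ⟨zE, e1, e2, e3⟩ := Dec.iso_perm h2 hg hg' (perm_forget_of_dat a7 b7 ha hb hs ht) a6 b6
  obtain ⟨zR, r1, r2⟩ := rest_iso hg hg' a3 b3 a5 b5 a8 hf
  have hEst := a6.st
  have hEst' := b6.st
  have hEmap : E.map g.toLinearMap = E := Submodule.eq_of_le_of_finrank_eq (by
    rintro _ ⟨v, hv, rfl⟩
    exact hEst v hv) (LinearEquiv.finrank_map_eq g E)
  have hEmap' : E'.map g'.toLinearMap = E' := Submodule.eq_of_le_of_finrank_eq (by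
    rintro _ ⟨v, hv, rfl⟩
    exact hEst' v hv) (LinearEquiv.finrank_map_eq g' E')
  refine H171.glue_bilin (B Q) (B Q') (B_isRefl Q) (B_isRefl Q') g g' a1 b1 a2 b2 (g.ofSubmodules E E hEmap) gR
    (fun u => rfl) a3 (g'.ofSubmodules E' E' hEmap') gR' (fun u => rfl) b3 zE (fun u => ?_) e1 zR r1 (fun u v => ?_)
  · apply Subtype.ext
    exact e2 u _ rfl
  · show polar Q' (zR u : V') (zR v : V') = polar Q (u : V) (v : V)
    unfold polar
    rw [r2, r2, ← Submodule.coe_add, ← Submodule.coe_add, ← map_add, r2]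

end Iso

section Flip

/-- removing the pieces where two lists differ -/
theorem perm_erase {L L' : List Piece} {p p' : Piece} (hp : p ∈ L) (hp' : p' ∈ L') (hpp : p ≠ p')
    (h : ∀ q, q ≠ p → q ≠ p' → L.count q = L'.count q) (h1 : L.count p = 1) (h1' : L'.count p = 0)
    (h2 : L.count p + L.count p' = L'.count p + L'.count p') : (L.erase p).Perm (L'.erase p') := by
  rw [List.perm_iff_count]
  intro q
  rw [List.count_erase, List.count_erase]
  by_cases hq : q = p
  · subst hq
    have h3 : (p' == q) = false := beq_eq_false_iff_ne.2 (Ne.symm hpp)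
    simp only [beq_self_eq_true, if_true, h3]
    simp only [Bool.false_eq_true, if_false]
    omega
  · by_cases hq' : q = p'
    · subst hq'
      have h3 : (p == q) = false := beq_eq_false_iff_ne.2 hpp
      simp only [beq_self_eq_true, if_true, h3]
      simp only [Bool.false_eq_true, if_false]
      omega
    · have h3 : (p == q) = false := beq_eq_false_iff_ne.2 (Ne.symm hq)
      have h4 : (p' == q) = false := beq_eq_false_iff_ne.2 (Ne.symm hq')
      rw [h3, h4, h q hq hq']

variable {Q : QuadraticForm F V} {g g' : V ≃ₗ[F] V} {α : F}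

theorem Dec.no_flip [Finite F] (h2 : (2 : F) = 0) (hα0 : ∀ l : F, l * l + l ≠ α) (hQ : Nd Q ⊤)
    (hg : ∀ v, Q (g v) = Q v) (hg' : ∀ v, Q (g' v) = Q v) {E R E' R' : Submodule F V} {L L' : List Piece}
    (a1 : IsCompl E R) (a2 : ∀ u ∈ E, ∀ v ∈ R, B Q u v = 0) (a5 : Nd Q R) (a6 : Dec Q g α L E)
    (b2 : ∀ u ∈ E', ∀ v ∈ R', B Q u v = 0) (b5 : Nd Q R') (b6 : Dec Q g' α L' E')
    (st : St g R) (hR : Iso Q g Q g' True R R')
    {p p' : Piece} (hpp : (∃ k, p = .W (2 * k + 1) true ∧ p' = .W (2 * k + 1) false) ∨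
      ∃ k, p = .C k true ∧ p' = .C k false) (hp : p ∈ L) (hp' : p' ∈ L')
    (hLL : (L.erase p).Perm (L'.erase p')) : False := by
  have c6 := a6.perm (List.perm_cons_erase hp)
  have d6 := b6.perm ((List.perm_cons_erase hp').trans (List.Perm.cons p' hLL.symm))
  cases c6 with
  | cons _ _ x y U hx ho hU =>
  cases d6 with
  | cons _ _ x' y' U' hx' ho' hU' =>
  have e1 := hU.nd_finrank h2 hg
  have e1' := hU'.nd_finrank h2 hg'
  have hIso : Iso Q g Q g' True U U' := by
    obtain ⟨T, t1, t2, t3⟩ := Dec.iso h2 hg hg' (L := L.erase p) (L' := L.erase p) rfl hU hU'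
    exact ⟨T, t1, t2, fun _ => t3 rfl⟩
  obtain ⟨T, t1, t2, t3⟩ := Iso.glue hIso hR hU.st st
    (fun a ha b hb => a2 a (Submodule.mem_sup_right ha) b hb)
    (fun a ha b hb => b2 a (Submodule.mem_sup_right ha) b hb) e1.1 a5 e1'.1 b5
  refine Uni.no_flip h2 hα0 hQ hg hg' hpp hx hx' (R := U ⊔ R) (R' := U' ⊔ R') ?_ ?_ ?_ T (t3 trivial)
  · rw [← sup_assoc]
    exact a1.sup_eq_top
  · intro a ha b hb
    obtain ⟨u, hu, r, hr, rfl⟩ := Submodule.mem_sup.1 hb
    rw [map_add, ho a ha u hu, a2 a (Submodule.mem_sup_left ha) r hr, add_zero]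
  · intro a ha b hb
    obtain ⟨u, hu, r, hr, rfl⟩ := Submodule.mem_sup.1 hb
    rw [map_add, ho' a ha u hu, b2 a (Submodule.mem_sup_left ha) r hr, add_zero]

/-- **One sign cannot be changed inside the same orthogonal group.** -/
theorem Rep.no_flip [Finite F] (h2 : (2 : F) = 0) (hα0 : ∀ l : F, l * l + l ≠ α) (hQ : Nd Q ⊤)
    (hg : ∀ v, Q (g v) = Q v) (hg' : ∀ v, Q (g' v) = Q v) {D D' : Dat F}
    (h : Rep Q g α D) (h' : Rep Q g' α D') (hf : D.f = D'.f) (ha : D.a = D'.a) (hb : D.b = D'.b)
    (hflip : (∃ k, D.s (2 * k + 1) = true ∧ D'.s (2 * k + 1) = false ∧ (∀ m, m ≠ 2 * k + 1 → D.s m = D'.s m) ∧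
      D.t = D'.t) ∨ ∃ k, D.t k = true ∧ D'.t k = false ∧ D.s = D'.s ∧ ∀ m, m ≠ k → D.t m = D'.t m) : False := by
  obtain ⟨E, R, gR, L, a1, a2, a3, a4, a5, a6, a7, a8, rfl⟩ := h
  obtain ⟨E', R', gR', L', b1, b2, b3, b4, b5, b6, b7, b8, rfl⟩ := h'
  obtain ⟨zR, r1, r2⟩ := rest_iso hg hg' a3 b3 a5 b5 a8 hf
  have st : St g R := fun v hv => by
    rw [← a3 ⟨v, hv⟩]
    exact (gR ⟨v, hv⟩).2
  have hR : Iso Q g Q g' True R R' := by
    refine ⟨zR, fun u v => ?_, fun u v huv => ?_, fun _ => r2⟩
    · show polar Q (zR u : V) (zR v : V) = polar Q (u : V) (v : V)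
      unfold polar
      rw [r2, r2, ← Submodule.coe_add, ← Submodule.coe_add, ← map_add, r2]
    · have h1 : v = gR u := Subtype.ext (by rw [huv, a3])
      rw [h1, r1, b3]
  rcases hflip with ⟨k, k1, k2, k3, k4⟩ | ⟨k, k1, k2, k3, k4⟩
  · have m1 : Piece.W (2 * k + 1) true ∈ L := of_decide_eq_true k1
    have m2 : Piece.W (2 * k + 1) true ∉ L' := of_decide_eq_false k2
    have m3 : Piece.W (2 * k + 1) false ∈ L' := by
      have h3 : 0 < aOf L' (2 * k + 1) := by
        have := aOf_pos' m1
        rwa [show aOf L = aOf L' from ha] at this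
      obtain ⟨s, hs⟩ := aOf_pos h3
      cases s
      · exact hs
      · exact absurd hs m2
    refine Dec.no_flip h2 hα0 hQ hg hg' a1 a2 a5 a6 b2 b5 b6 st hR (Or.inl ⟨k, rfl, rfl⟩) m1 m3 ?_
    refine perm_erase m1 m3 (by simp) ?_ ?_ ?_ ?_
    · rintro (⟨m, s⟩ | ⟨m, s⟩) hq hq'
      · by_cases hm : m = 2 * k + 1
        · subst hm
          cases s
          · exact absurd rfl hq'
          · exact absurd rfl hq
        · have hW : L.count (Piece.W m true) = L'.count (Piece.W m true) := by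
            have h3 := k3 m hm
            simp only [datOf] at h3
            rw [a7.count_W, b7.count_W, h3]
          cases s
          · have h1 := congrFun ha m
            simp only [datOf, aOf] at h1
            omega
          · exact hW
      · have hC : L.count (Piece.C m true) = L'.count (Piece.C m true) := by
          have h3 := congrFun k4 m
          simp only [datOf] at h3
          rw [a7.count_C, b7.count_C, h3]
        cases s
        · have h1 := congrFun hb m
          simp only [datOf, bOf] at h1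
          omega
        · exact hC
    · rw [a7.count_W, if_pos (decide_eq_true m1)]
    · exact List.count_eq_zero.2 m2
    · have h1 := congrFun ha (2 * k + 1)
      simp only [datOf, aOf] at h1
      exact h1
  · have m1 : Piece.C k true ∈ L := of_decide_eq_true k1
    have m2 : Piece.C k true ∉ L' := of_decide_eq_false k2
    have m3 : Piece.C k false ∈ L' := by
      have h3 : 0 < bOf L' k := by
        have := bOf_pos' m1
        rwa [show bOf L = bOf L' from hb] at this
      obtain ⟨s, hs⟩ := bOf_pos h3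
      cases s
      · exact hs
      · exact absurd hs m2
    refine Dec.no_flip h2 hα0 hQ hg hg' a1 a2 a5 a6 b2 b5 b6 st hR (Or.inr ⟨k, rfl, rfl⟩) m1 m3 ?_
    refine perm_erase m1 m3 (by simp) ?_ ?_ ?_ ?_
    · rintro (⟨m, s⟩ | ⟨m, s⟩) hq hq'
      · have hW : L.count (Piece.W m true) = L'.count (Piece.W m true) := by
          have h3 := congrFun k3 m
          simp only [datOf] at h3
          rw [a7.count_W, b7.count_W, h3]
        cases s
        · have h1 := congrFun ha m
          simp only [datOf, aOf] at h1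
          omega
        · exact hW
      · by_cases hm : m = k
        · subst hm
          cases s
          · exact absurd rfl hq'
          · exact absurd rfl hq
        · have hC : L.count (Piece.C m true) = L'.count (Piece.C m true) := by
            have h3 := k4 m hm
            simp only [datOf] at h3
            rw [a7.count_C, b7.count_C, h3]
          cases s
          · have h1 := congrFun hb m
            simp only [datOf, bOf] at h1
            omega
          · exact hC
    · rw [a7.count_C, if_pos (decide_eq_true m1)]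
    · exact List.count_eq_zero.2 m2
    · have h1 := congrFun hb k
      simp only [datOf, bOf] at h1
      exact h1

end Flip

end Cfsg.Agent.H170.Uni
end

-- part: H170/EvenUpper
section
/-!
# `k(O^±(2n,q)) ≤ 15 q^n` for `q` even
-/

set_option autoImplicit false

namespace Cfsg.Agent.H170.EvenUpper

open Module QuadraticMap Cfsg.Agent.H170.Uni Cfsg.Agent.H170.Bridge

section FieldFacts

variable {F : Type*} [Field F] [Finite F]

theorem two_eq_zero (h : Even (Nat.card F)) : (2 : F) = 0 := by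
  have := Fintype.ofFinite F
  rw [Nat.card_eq_fintype_card] at h
  have h1 : ringChar F = 2 := FiniteField.even_card_iff_char_two.2 (Nat.even_iff.1 h)
  have h2 := ringChar.Nat.cast_ringChar (R := F)
  rw [h1] at h2
  exact_mod_cast h2

theorem exists_sqrt (h : Even (Nat.card F)) (c : F) : ∃ d : F, d * d = c := by
  have := Fintype.ofFinite F
  rw [Nat.card_eq_fintype_card] at h
  have h1 : ringChar F = 2 := FiniteField.even_card_iff_char_two.2 (Nat.even_iff.1 h)
  obtain ⟨d, hd⟩ := FiniteField.isSquare_of_char_two h1 c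
  exact ⟨d, hd.symm⟩

/-- the Artin–Schreier map -/
def asMap (h2 : (2 : F) = 0) : F →+ F where
  toFun l := l * l + l
  map_zero' := by ring
  map_add' a b := by linear_combination (a * b) * h2

theorem exists_alpha (h2 : (2 : F) = 0) :
    ∃ α : F, (∀ l, l * l + l ≠ α) ∧ ∀ r, (∃ l, l * l + l = r) ∨ ∃ l, l * l + l = r + α := by
  classical
  have hker : Nat.card (asMap h2).ker = 2 := by
    have h1 : ((asMap h2).ker : Set F) = {0, 1} := by
      ext x
      rw [SetLike.mem_coe, AddMonoidHom.mem_ker, Set.mem_insert_iff, Set.mem_singleton_iff]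
      show x * x + x = 0 ↔ _
      constructor
      · intro h
        have h3 : x * (x + 1) = 0 := by linear_combination h
        rcases mul_eq_zero.1 h3 with h4 | h4
        · exact Or.inl h4
        · exact Or.inr (by linear_combination h4 - h2)
      · rintro (rfl | rfl)
        · ring
        · linear_combination h2
    have h3 : Nat.card (asMap h2).ker = Nat.card (({0, 1} : Set F)) := by
      rw [← h1]
      rfl
    rw [h3, Nat.card_coe_set_eq, Set.ncard_pair zero_ne_one]
  have hidx : (asMap h2).range.index = 2 := by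
    have h1 := (asMap h2).range.card_mul_index
    have h3 := AddSubgroup.card_eq_card_quotient_mul_card_addSubgroup (asMap h2).ker
    have h4 : Nat.card (F ⧸ (asMap h2).ker) = Nat.card (asMap h2).range :=
      Nat.card_congr (QuotientAddGroup.quotientKerEquivRange (asMap h2)).toEquiv
    rw [h4, hker] at h3
    have h5 : 0 < Nat.card (asMap h2).range := Nat.card_pos
    rw [h3] at h1
    exact Nat.eq_of_mul_eq_mul_left h5 h1
  have hmem : ∀ r, r ∈ (asMap h2).range ↔ ∃ l, l * l + l = r := fun r => Iff.rfl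
  obtain ⟨α, hα⟩ : ∃ α, α ∉ (asMap h2).range := by
    by_contra hc
    push Not at hc
    have h1 : (asMap h2).range = ⊤ := eq_top_iff.2 fun x _ => hc x
    rw [h1, AddSubgroup.index_top] at hidx
    omega
  refine ⟨α, fun l hl => hα ((hmem α).2 ⟨l, hl⟩), fun r => ?_⟩
  by_cases hr : r ∈ (asMap h2).range
  · exact Or.inl ((hmem r).1 hr)
  · right
    rw [← hmem]
    rw [AddSubgroup.add_mem_iff_of_index_two hidx]
    exact iff_of_false hr hα

end FieldFacts

section Flip

variable {F : Type*} [Field F]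

/-- something is present at position `r` (odd: `W(r)`, even: `C(r/2)`) -/
def pres (D : Dat F) (r : ℕ) : Prop := (Odd r ∧ 0 < D.a r) ∨ (Even r ∧ 0 < D.b (r / 2))

open Classical in
/-- the first position -/
noncomputable def pos (D : Dat F) : ℕ := if h : ∃ r, pres D r then Nat.find h else 0

theorem pos_spec {D : Dat F} (h : ∃ r, pres D r) : pres D (pos D) ∧ ∀ r, r < pos D → ¬ pres D r := by
  classical
  rw [pos, dif_pos h]
  exact ⟨Nat.find_spec h, fun r hr => Nat.find_min h hr⟩

open Classical in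
/-- change the sign at the first position -/
noncomputable def flip (D : Dat F) : Dat F where
  f := D.f
  a := D.a
  b := D.b
  s := fun m => if Odd (pos D) ∧ m = pos D then !D.s m else D.s m
  t := fun k => if Even (pos D) ∧ k = pos D / 2 then !D.t k else D.t k

theorem pos_flip (D : Dat F) : pos (flip D) = pos D := rfl

theorem flip_flip (D : Dat F) : flip (flip D) = D := by
  have hs : (flip (flip D)).s = D.s := by
    funext m
    show (if Odd (pos D) ∧ m = pos D then !(if Odd (pos D) ∧ m = pos D then !D.s m else D.s m) else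
      (if Odd (pos D) ∧ m = pos D then !D.s m else D.s m)) = D.s m
    split_ifs
    · exact Bool.not_not _
    · rfl
  have ht : (flip (flip D)).t = D.t := by
    funext m
    show (if Even (pos D) ∧ m = pos D / 2 then !(if Even (pos D) ∧ m = pos D / 2 then !D.t m else D.t m) else
      (if Even (pos D) ∧ m = pos D / 2 then !D.t m else D.t m)) = D.t m
    split_ifs
    · exact Bool.not_not _
    · rfl
  have h : flip (flip D) = ⟨D.f, D.a, D.b, (flip (flip D)).s, (flip (flip D)).t⟩ := rfl
  rw [h, hs, ht]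

theorem flip_ok {n : ℕ} {D : Dat F} (h : D.Ok n) (hD : ∃ r, pres D r) : (flip D).Ok n := by
  obtain ⟨h1, h2⟩ := pos_spec hD
  refine ⟨h.monic, h.pal, h.one, h.even, h.zero, h.big, h.b_le, fun j hj => ?_, fun k hk => ?_, h.size⟩
  · simp only [flip] at hj
    show Odd j ∧ 0 < D.a j ∧ D.b (j / 2) = 0
    split_ifs at hj with hc
    · obtain ⟨c1, rfl⟩ := hc
      rcases h1 with ⟨_, h1⟩ | ⟨h1, _⟩
      · refine ⟨c1, h1, ?_⟩
        by_contra h3
        obtain ⟨k, hk⟩ := c1
        apply h2 (2 * k) (by omega)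
        refine Or.inr ⟨even_two_mul k, ?_⟩
        rw [show 2 * k / 2 = pos D / 2 by omega]
        exact Nat.pos_of_ne_zero h3
      · exact absurd h1 (Nat.not_even_iff_odd.2 c1)
    · exact h.s_imp j hj
  · simp only [flip] at hk
    show 0 < D.b k ∧ D.b (k - 1) = 0 ∧ D.a (2 * k - 1) = 0
    split_ifs at hk with hc
    · obtain ⟨c1, rfl⟩ := hc
      rcases h1 with ⟨h1, _⟩ | ⟨_, h1⟩
      · exact absurd c1 (Nat.not_even_iff_odd.2 h1)
      · obtain ⟨k, hk⟩ := c1
        have hk' : pos D / 2 = k := by omega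
        rw [hk'] at h1 ⊢
        have hk0 : 0 < k := by
          rcases Nat.eq_zero_or_pos k with h0 | h0
          · rw [h0, h.zero.2.2] at h1
            exact absurd h1 (lt_irrefl _)
          · exact h0
        refine ⟨h1, ?_, ?_⟩
        · by_contra h3
          apply h2 (2 * (k - 1)) (by omega)
          refine Or.inr ⟨even_two_mul _, ?_⟩
          rw [show 2 * (k - 1) / 2 = k - 1 by omega]
          exact Nat.pos_of_ne_zero h3
        · by_contra h3
          apply h2 (2 * k - 1) (by omega)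
          exact Or.inl ⟨⟨k - 1, by omega⟩, Nat.pos_of_ne_zero h3⟩
    · exact h.t_imp k hk

/-- counting with an involution -/
theorem two_card_le {X : Type*} {S T : Set X} (hS : S.Finite) (hT : T ⊆ S) (P : X → Prop) (φ : X → X)
    (h1 : ∀ x ∈ S, ¬ P x → φ x ∈ S) (h2 : ∀ x, φ (φ x) = x)
    (h3 : ∀ x ∈ T, ¬ P x → φ x ∉ T) : 2 * T.ncard ≤ S.ncard + {x | x ∈ S ∧ P x}.ncard := by
  classical
  have hTf : T.Finite := hS.subset hT
  have e1 : (T ∩ {x | P x}).ncard + (T \ {x | P x}).ncard = T.ncard := Set.ncard_inter_add_ncard_sdiff_eq_ncard _ _ hTf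
  have e2 : (φ '' (T \ {x | P x})).ncard = (T \ {x | P x}).ncard :=
    Set.ncard_image_of_injective _ fun x y h => by rw [← h2 x, ← h2 y, h]
  have e3 : Disjoint T (φ '' (T \ {x | P x})) := by
    rw [Set.disjoint_right]
    rintro _ ⟨x, ⟨hx, hPx⟩, rfl⟩
    exact h3 x hx hPx
  have e4 : (T ∪ φ '' (T \ {x | P x})).ncard ≤ S.ncard := by
    apply Set.ncard_le_ncard _ hS
    rintro y (hy | ⟨x, ⟨hx, hPx⟩, rfl⟩)
    · exact hT hy
    · exact h1 x (hT hx) hPx
  rw [Set.ncard_union_eq e3 hTf ((hTf.sdiff).image _), e2] at e4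
  have e5 : (T ∩ {x | P x}).ncard ≤ {x | x ∈ S ∧ P x}.ncard :=
    Set.ncard_le_ncard (fun x hx => ⟨hT hx.1, hx.2⟩) (hS.subset fun x hx => hx.1)
  omega

end Flip

section Upper

variable {F : Type*} [Field F] [Finite F]

/-- no multiplicity -/
def Free (D : Dat F) : Prop := (∀ j, Odd j → D.a j = 0) ∧ ∀ k, D.b k = 0

omit [Finite F] in
theorem exists_pres {D : Dat F} (h : ¬ Free D) : ∃ r, pres D r := by
  by_contra hc
  push Not at hc
  refine h ⟨fun j hj => ?_, fun k => ?_⟩
  · by_contra h0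
    exact hc j (Or.inl ⟨hj, Nat.pos_of_ne_zero h0⟩)
  · by_contra h0
    apply hc (2 * k)
    refine Or.inr ⟨even_two_mul k, ?_⟩
    rw [show 2 * k / 2 = k by omega]
    exact Nat.pos_of_ne_zero h0

/-- **Upper bound.** -/
theorem card_classes_le (hF : Even (Nat.card F)) {ι : Type} [Fintype ι] [DecidableEq ι] {n : ℕ}
    (hι : Fintype.card ι = 2 * n) (Q : QuadraticForm F (ι → F)) (hQ : Nd Q ⊤) :
    Nat.card (ConjClasses (Cfsg.isometryGroup F Q)) ≤ 15 * Nat.card F ^ n := by
  classical
  have h2 := two_eq_zero hF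
  obtain ⟨α, hα0, hα⟩ := exists_alpha h2
  have hfin : Finite {D : Dat F | D.Ok n} := H173.Num.finite_dat (F := F) n
  have hfr : finrank F (ι → F) = 2 * n := by rw [Module.finrank_fintype_fun_eq_card, hι]
  have hmem : ∀ g : Cfsg.isometryGroup F Q, ∀ v, Q (linOf g.1 v) = Q v := fun g => mem_iff.1 g.2
  have key := card_conj_le (G := Cfsg.isometryGroup F Q) {D : Dat F | D.Ok n}
    (fun g D => Rep Q (linOf g.1) α D)
    (fun g => by
      obtain ⟨D, h3, h4⟩ := exists_rep h2 (exists_sqrt hF) hα hQ (hmem g) hfr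
      exact ⟨D, h3, h4⟩)
    (fun g g' D h3 h4 => by
      obtain ⟨z, z1, z2⟩ := Rep.iso h2 (hmem g) (hmem g') h3 h4
      exact isConj_of_equiv g g' z z1 z2)
  have hSfin : {D : Dat F | D.Ok n}.Finite := Set.toFinite _
  have hcard2 : 2 ≤ Nat.card F := Finite.one_lt_card
  rcases Nat.lt_or_ge (Nat.card F) 4 with h4 | h4
  · have hq : Nat.card F = 2 := by
      obtain ⟨r, hr⟩ := hF
      omega
    have e1 := two_card_le (S := {D : Dat F | D.Ok n})
      (T := {D : Dat F | D.Ok n ∧ ∃ g : Cfsg.isometryGroup F Q, Rep Q (linOf g.1) α D}) hSfin (fun D hD => hD.1)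
      Free flip (fun D hD hP => flip_ok hD (exists_pres hP)) flip_flip
      (by
        rintro D ⟨hD, g, hg⟩ hP ⟨hD', g', hg'⟩
        obtain ⟨c1, c2⟩ := pos_spec (exists_pres hP)
        rcases Nat.even_or_odd (pos D) with ho | ho
        · have hflip : ∀ m, (flip D).t m = if m = pos D / 2 then !D.t m else D.t m := by
            intro m
            show (if Even (pos D) ∧ m = pos D / 2 then !D.t m else D.t m) = _
            simp only [ho, true_and]
          have hflip' : (flip D).s = D.s := by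
            funext m
            show (if Odd (pos D) ∧ m = pos D then !D.s m else D.s m) = _
            rw [if_neg fun hc => absurd ho (Nat.not_even_iff_odd.2 hc.1)]
          cases hs : D.t (pos D / 2)
          · refine Rep.no_flip h2 hα0 hQ (hmem g') (hmem g) hg' hg rfl rfl rfl (Or.inr ⟨pos D / 2, ?_, hs, hflip', ?_⟩)
            · rw [hflip, if_pos rfl, hs]
              rfl
            · intro m hm
              rw [hflip, if_neg hm]
          · refine Rep.no_flip h2 hα0 hQ (hmem g) (hmem g') hg hg' rfl rfl rfl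
              (Or.inr ⟨pos D / 2, hs, ?_, hflip'.symm, ?_⟩)
            · rw [hflip, if_pos rfl, hs]
              rfl
            · intro m hm
              rw [hflip, if_neg hm]
        · have hflip : ∀ m, (flip D).s m = if m = pos D then !D.s m else D.s m := by
            intro m
            show (if Odd (pos D) ∧ m = pos D then !D.s m else D.s m) = _
            simp only [ho, true_and]
          have hflip' : (flip D).t = D.t := by
            funext m
            show (if Even (pos D) ∧ m = pos D / 2 then !D.t m else D.t m) = _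
            rw [if_neg fun hc => absurd hc.1 (Nat.not_even_iff_odd.2 ho)]
          obtain ⟨k, hk⟩ := ho
          cases hs : D.s (pos D)
          · refine Rep.no_flip h2 hα0 hQ (hmem g') (hmem g) hg' hg rfl rfl rfl (Or.inl ⟨k, ?_, ?_, ?_, hflip'⟩)
            · rw [← hk, hflip, if_pos rfl, hs]
              rfl
            · rw [← hk, hs]
            · intro m hm
              rw [hflip, if_neg (by omega)]
          · refine Rep.no_flip h2 hα0 hQ (hmem g) (hmem g') hg hg' rfl rfl rfl (Or.inl ⟨k, ?_, ?_, ?_, hflip'.symm⟩)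
            · rw [← hk, hs]
            · rw [← hk, hflip, if_pos rfl, hs]
              rfl
            · intro m hm
              rw [hflip, if_neg (by omega)])
    have e2 := H173.Num.card_dat_two hq n
    have e3 := H173.Num.card_dat_free hq n
    rw [← Nat.card_coe_set_eq, ← Nat.card_coe_set_eq, ← Nat.card_coe_set_eq] at e1
    have e4 : Nat.card (ConjClasses (Cfsg.isometryGroup F Q)) ≤
        Nat.card {D : Dat F | D.Ok n ∧ ∃ g : Cfsg.isometryGroup F Q, Rep Q (linOf g.1) α D} := key
    have e5 : Nat.card {D : Dat F | D.Ok n} = Nat.card {D : Dat F // D.Ok n} := rfl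
    have e6 : Nat.card {x : Dat F | x ∈ {D : Dat F | D.Ok n} ∧ Free x} =
        Nat.card {D : Dat F // D.Ok n ∧ (∀ j, Odd j → D.a j = 0) ∧ ∀ k, D.b k = 0} := rfl
    rw [e5, e6] at e1
    rw [hq]
    omega
  · refine key.trans (le_trans ?_ (H173.Num.card_dat h4 n))
    have hfin' : Finite {D : Dat F // D.Ok n} := hfin
    exact Nat.card_le_card_of_injective (fun D => ⟨D.1, D.2.1⟩) fun D D' h => Subtype.ext (congrArg (fun x : {D : Dat F // D.Ok n} => x.1) h)

end Upper

section Forms

open Cfsg.Agent.LieClassical.QuadForms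

variable {F : Type*} [Field F] [Finite F]

omit [Finite F] in
theorem nd_of_polar {V : Type*} [AddCommGroup V] [Module F V] {Q : QuadraticForm F V}
    (h : ∀ u, (∀ v, polar Q u v = 0) → u = 0) : Nd Q ⊤ :=
  fun u _ hu => h u fun v => hu v trivial

omit [Finite F] in
theorem nd_plus (n : ℕ) : Nd (plusForm n F) ⊤ := nd_of_polar (polar_plusForm_nondeg n)

theorem nd_minus (hF : Even (Nat.card F)) (n : ℕ) (a b : F)
    (hab : ∀ z₁ z₂ : F, z₁ ^ 2 + a * z₁ * z₂ + b * z₂ ^ 2 = 0 → z₁ = 0 ∧ z₂ = 0) : Nd (minusForm n F a b) ⊤ := by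
  have h2 := two_eq_zero hF
  have ha : a ≠ 0 := by
    rintro rfl
    obtain ⟨d, hd⟩ := exists_sqrt hF b
    have := (hab d 1 (by linear_combination hd + b * h2)).2
    exact one_ne_zero this
  apply nd_of_polar
  intro u hu
  have h1 : (fun i => u (.inl i)) = (0 : Fin n ⊕ Fin n → F) := by
    apply polar_plusForm_nondeg n
    intro v
    have h3 := hu (Sum.elim v 0)
    rw [polar_minusForm] at h3
    have h4 : polar (binForm F a b) (fun i => u (.inr i)) (fun i => (Sum.elim v 0 : (Fin n ⊕ Fin n) ⊕ Fin 2 → F) (.inr i)) = 0 := by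
      rw [polar_binForm]
      simp
    rw [h4, add_zero] at h3
    exact h3
  have h5 : ∀ z : Fin 2 → F, a * (u (.inr 0) * z 1 + u (.inr 1) * z 0) = 0 := by
    intro z
    have h3 := hu (Sum.elim 0 z)
    rw [polar_minusForm, h1, polar_binForm] at h3
    have h4 : polar (plusForm n F) 0 (fun i => (Sum.elim 0 z : (Fin n ⊕ Fin n) ⊕ Fin 2 → F) (.inl i)) = 0 := by
      rw [polar_plusForm]
      simp
    rw [h4, zero_add] at h3
    simp only [Sum.elim_inr] at h3
    linear_combination h3 - (u (.inr 0) * z 0 + b * (u (.inr 1) * z 1)) * h2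
  funext x
  rcases x with i | i
  · exact congrFun h1 i
  · fin_cases i
    · have := h5 ![0, 1]
      simp only [Matrix.cons_val_zero, Matrix.cons_val_one, mul_one, mul_zero, add_zero] at this
      exact (mul_eq_zero.1 this).resolve_left ha
    · have := h5 ![1, 0]
      simp only [Matrix.cons_val_zero, Matrix.cons_val_one, mul_one, mul_zero, zero_add] at this
      exact (mul_eq_zero.1 this).resolve_left ha

theorem card_plus_le (hF : Even (Nat.card F)) (n : ℕ) :
    Nat.card (ConjClasses (Cfsg.isometryGroup F (Cfsg.quadFormPlus n F))) ≤ 15 * Nat.card F ^ n := by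
  have h := card_classes_le hF (n := n) (by simp; omega) (plusForm n F) (nd_plus n)
  rwa [coe_plusForm] at h

theorem card_minus_le (hF : Even (Nat.card F)) (n : ℕ) (a b : F)
    (hab : ∀ z₁ z₂ : F, z₁ ^ 2 + a * z₁ * z₂ + b * z₂ ^ 2 = 0 → z₁ = 0 ∧ z₂ = 0) :
    Nat.card (ConjClasses (Cfsg.isometryGroup F (Cfsg.quadFormMinus n F a b))) ≤ 15 * Nat.card F ^ (n + 1) := by
  have h := card_classes_le hF (n := n + 1) (by simp; omega) (minusForm n F a b) (nd_minus hF n a b hab)
  rwa [coe_minusForm] at h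

end Forms

end Cfsg.Agent.H170.EvenUpper
end
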